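import Groth.Agent.SchD38.Graded
import Mathlib.AlgebraicGeometry.Morphisms.Flat
import Mathlib.AlgebraicGeometry.Morphisms.Immersion
import Mathlib.AlgebraicGeometry.Limits

/-!
Schematic density lifts from the reduction modulo a nilpotent ideal with free graded quotients.
-/

set_option autoImplicit false
set_option backward.isDefEq.respectTransparency.types false
universe u

open CategoryTheory AlgebraicGeometry
open CategoryTheory.Limits
open scoped TensorProduct

namespace Groth.Agent.SchD38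

variable {A : CommRingCat.{u}}

/-- The structure map to sections over an open. -/
noncomputable def str {X : Scheme.{u}} (p : X ⟶ Spec A) (V : X.Opens) : A ⟶ Γ(X, V) :=
  (Scheme.ΓSpecIso A).inv ≫ p.appLE ⊤ V le_top

theorem str_app {X Y : Scheme.{u}} (f : Y ⟶ X) (p : X ⟶ Spec A) (V : X.Opens) (W : Y.Opens) (h : W ≤ f ⁻¹ᵁ V) :
    str p V ≫ f.appLE V W h = str (f ≫ p) W := by
  rw [str, str, Category.assoc, Scheme.Hom.appLE_comp_appLE]

theorem flat_str {X : Scheme.{u}} (p : X ⟶ Spec A) [Flat p] {V : X.Opens} (hV : IsAffineOpen V) :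
    (str p V).hom.Flat := by
  have h1 : (p.appLE ⊤ V le_top).hom.Flat :=
    HasRingHomProperty.appLE @Flat p inferInstance ⟨⊤, isAffineOpen_top _⟩ ⟨V, hV⟩ le_top
  rw [str, CommRingCat.hom_comp]
  exact RingHom.Flat.comp (RingHom.Flat.of_bijective (ConcreteCategory.bijective_of_isIso (Scheme.ΓSpecIso A).inv)) h1

/-- Sections in the extension of the ideal vanish on the reduction. -/
theorem app_fst_eq_zero {X : Scheme.{u}} (p : X ⟶ Spec A) (J : Ideal A) (V : X.Opens)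
    {c : Γ(X, V)} (hc : c ∈ J.map (str p V).hom) :
    (pullback.fst p (Spec.map (CommRingCat.ofHom (Ideal.Quotient.mk J)))).app V c = 0 := by
  let i := Spec.map (CommRingCat.ofHom (Ideal.Quotient.mk J))
  have hle : J.map (str p V).hom ≤ RingHom.ker ((pullback.fst p i).app V).hom := by
    refine Ideal.map_le_iff_le_comap.2 fun r hr => ?_
    show ((pullback.fst p i).app V) (str p V r) = 0
    have h1 : str p V ≫ (pullback.fst p i).app V = str (pullback.fst p i ≫ p) (pullback.fst p i ⁻¹ᵁ V) := by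
      rw [← str_app (pullback.fst p i) p V _ le_rfl, Scheme.Hom.appLE_eq_app]
    have h2 : str (pullback.fst p i ≫ p) (pullback.fst p i ⁻¹ᵁ V) =
        CommRingCat.ofHom (Ideal.Quotient.mk J) ≫ str (pullback.snd p i) (pullback.fst p i ⁻¹ᵁ V) := by
      rw [pullback.condition, str, str]
      rw [← Category.assoc (CommRingCat.ofHom _), Scheme.ΓSpecIso_inv_naturality, Category.assoc]
      congr 1
    have h3 := congrArg (fun f => f r) (h1.trans h2)
    simp only [CommRingCat.comp_apply] at h3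
    rw [h3, show (CommRingCat.ofHom (Ideal.Quotient.mk J)) r = 0 from Ideal.Quotient.eq_zero_iff_mem.2 hr, map_zero]
  exact hle hc

/-- A section vanishing on the reduction lies in the extension of the ideal. -/
theorem mem_map_of_app_fst_eq_zero {X : Scheme.{u}} (p : X ⟶ Spec A) (J : Ideal A) {V : X.Opens} (hV : IsAffineOpen V)
    {b : Γ(X, V)} (hb : (pullback.fst p (Spec.map (CommRingCat.ofHom (Ideal.Quotient.mk J)))).app V b = 0) :
    b ∈ J.map (str p V).hom := by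
  let i := Spec.map (CommRingCat.ofHom (Ideal.Quotient.mk J))
  let I : Ideal Γ(X, V) := J.map (str p V).hom
  let q : Γ(X, V) ⟶ CommRingCat.of (Γ(X, V) ⧸ I) := CommRingCat.ofHom (Ideal.Quotient.mk I)
  let u : Spec (CommRingCat.of (Γ(X, V) ⧸ I)) ⟶ X := Spec.map q ≫ hV.fromSpec
  let g : CommRingCat.of (A ⧸ J) ⟶ CommRingCat.of (Γ(X, V) ⧸ I) :=
    CommRingCat.ofHom (Ideal.quotientMap I (str p V).hom Ideal.le_comap_map)
  have hup : u ≫ p = Spec.map g ≫ i := by
    have h1 : hV.fromSpec ≫ p = Spec.map (str p V) := by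
      have := IsAffineOpen.SpecMap_appLE_fromSpec p (isAffineOpen_top (Spec A)) hV (le_top (a := V))
      rw [← this, IsAffineOpen.fromSpec_top, Scheme.isoSpec_Spec_inv, ← Spec.map_comp, str]
    rw [Category.assoc, h1, ← Spec.map_comp, ← Spec.map_comp]
    rfl
  let ψ := pullback.lift (f := p) (g := i) u (Spec.map g) hup
  have hψ : ψ ≫ pullback.fst p i = u := pullback.lift_fst _ _ _
  have hu : ∀ (h : (⊤ : (Spec (CommRingCat.of (Γ(X, V) ⧸ I))).Opens) ≤ u ⁻¹ᵁ V),
      u.appLE V ⊤ h = q ≫ (Scheme.ΓSpecIso _).inv := fun h => by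
    have h2 : (⊤ : (Spec Γ(X, V)).Opens) ≤ hV.fromSpec ⁻¹ᵁ V := hV.fromSpec_preimage_self.ge
    rw [show u.appLE V ⊤ h = hV.fromSpec.appLE V ⊤ h2 ≫ (Spec.map q).appLE ⊤ ⊤ le_rfl from
      (Scheme.Hom.appLE_comp_appLE _ _ _ _ _ _ _).symm]
    rw [show hV.fromSpec.appLE V ⊤ h2 = hV.fromSpec.app V ≫ (Spec Γ(X, V)).presheaf.map (homOfLE h2).op from rfl,
      IsAffineOpen.fromSpec_app_self, Category.assoc, Category.assoc, Scheme.Hom.map_appLE, Scheme.Hom.map_appLE]
    refine Eq.trans ?_ (Scheme.ΓSpecIso_inv_naturality q).symm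
    congr 1
  have htop : (⊤ : (Spec (CommRingCat.of (Γ(X, V) ⧸ I))).Opens) ≤ u ⁻¹ᵁ V := fun z _ => by
    show hV.fromSpec (Spec.map q z) ∈ V
    exact hV.range_fromSpec.subset ⟨_, rfl⟩
  have h0 : u.appLE V ⊤ htop b = 0 := by
    have h' : (⊤ : (Spec (CommRingCat.of (Γ(X, V) ⧸ I))).Opens) ≤ ψ ⁻¹ᵁ (pullback.fst p i ⁻¹ᵁ V) := by
      rw [← Scheme.Hom.comp_preimage, hψ]; exact htop
    have e : ((pullback.fst p i).app V ≫ ψ.appLE (pullback.fst p i ⁻¹ᵁ V) ⊤ h') = u.appLE V ⊤ htop := by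
      simp only [← hψ, ← Scheme.Hom.appLE_eq_app, Scheme.Hom.appLE_comp_appLE]
    rw [← e, CommRingCat.comp_apply, hb, map_zero]
  rw [hu, CommRingCat.comp_apply] at h0
  have := (ConcreteCategory.bijective_of_isIso (Scheme.ΓSpecIso (CommRingCat.of (Γ(X, V) ⧸ I))).inv).injective
    (h0.trans (map_zero _).symm)
  exact Ideal.Quotient.eq_zero_iff_mem.1 this

theorem mem_map_iff_smul {X : Scheme.{u}} (p : X ⟶ Spec A) (J : Ideal A) (V : X.Opens) (b : Γ(X, V)) :
    letI := (str p V).hom.toAlgebra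
    b ∈ J.map (str p V).hom ↔ b ∈ J • (⊤ : Submodule A Γ(X, V)) := by
  let := (str p V).hom.toAlgebra
  rw [Ideal.smul_top_eq_map]
  rfl

/-- The statement for an affine open. -/
theorem eq_zero_affine {X : Scheme.{u}} (p : X ⟶ Spec A) [Flat p] (J : Ideal A) (hJ : IsNilpotent J)
    (hfree : ∀ k : ℕ, Module.Free (A ⧸ J) ((A ⧸ J) ⊗[A] ↥(J ^ k)))
    {ι : Type u} (Z : ι → Scheme.{u}) (v : ∀ i, Z i ⟶ X) [∀ i, Flat (v i ≫ p)]
    (h0 : ∀ (V : (pullback p (Spec.map (CommRingCat.ofHom (Ideal.Quotient.mk J)))).Opens) (t : Γ(pullback p (Spec.map (CommRingCat.ofHom (Ideal.Quotient.mk J))), V)),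
      (∀ i, (pullback.map (v i ≫ p) (Spec.map (CommRingCat.ofHom (Ideal.Quotient.mk J))) p (Spec.map (CommRingCat.ofHom (Ideal.Quotient.mk J))) (v i) (𝟙 _) (𝟙 _)
        (Category.comp_id _) ((Category.comp_id _).trans (Category.id_comp _).symm)).app V t = 0) → t = 0)
    {V : X.Opens} (hV : IsAffineOpen V) (t : Γ(X, V)) (ht : ∀ i, (v i).app V t = 0) : t = 0 := by
  let σ := Σ i, {W : (Z i).Opens // IsAffineOpen W ∧ W ≤ v i ⁻¹ᵁ V}
  let := (str p V).hom.toAlgebra
  let : ∀ s : σ, Algebra A Γ(Z s.1, s.2.1) := fun s => (str (v s.1 ≫ p) s.2.1).hom.toAlgebra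
  have : ∀ s : σ, Module.Flat A Γ(Z s.1, s.2.1) := fun s => flat_str (v s.1 ≫ p) s.2.2.1
  let φ : ∀ s : σ, Γ(X, V) →ₗ[A] Γ(Z s.1, s.2.1) := fun s =>
    { toFun := (v s.1).appLE V s.2.1 s.2.2.2
      map_add' := fun a b => map_add _ _ _
      map_smul' := fun r a => by
        rw [Algebra.smul_def, Algebra.smul_def, map_mul]
        congr 1
        exact congrArg (fun f => f r) (str_app (v s.1) p V s.2.1 s.2.2.2) }
  refine eq_zero_of_forall J hJ hfree φ (fun b hb => ?_) t fun s => ?_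
  · rw [← mem_map_iff_smul p J V]
    refine mem_map_of_app_fst_eq_zero p J hV (h0 _ _ fun i => ?_)
    set m := pullback.map (v i ≫ p) (Spec.map (CommRingCat.ofHom (Ideal.Quotient.mk J))) p (Spec.map (CommRingCat.ofHom (Ideal.Quotient.mk J))) (v i) (𝟙 _) (𝟙 _)
        (Category.comp_id _) ((Category.comp_id _).trans (Category.id_comp _).symm)
    let f0 := pullback.fst (v i ≫ p) (Spec.map (CommRingCat.ofHom (Ideal.Quotient.mk J)))
    have hm : m ≫ pullback.fst p _ = f0 ≫ v i := pullback.lift_fst _ _ _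
    refine TopCat.Sheaf.eq_of_locally_eq' (pullback (v i ≫ p) _).sheaf
      (fun (o : {W : (Z i).Opens // IsAffineOpen W ∧ W ≤ v i ⁻¹ᵁ V}) =>
        (m ⁻¹ᵁ (pullback.fst p _ ⁻¹ᵁ V)) ⊓ f0 ⁻¹ᵁ o.1) (m ⁻¹ᵁ (pullback.fst p _ ⁻¹ᵁ V))
      (fun _ => homOfLE inf_le_left) ?_ _ _ ?_
    · intro z hz
      have hz' : v i (f0 z) ∈ V := by
        rw [← Scheme.Hom.comp_apply, ← hm]
        exact hz
      obtain ⟨W, hW, hzW, hWV⟩ := exists_isAffineOpen_mem_and_subset (U := v i ⁻¹ᵁ V) (x := f0 z) hz'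
      exact TopologicalSpace.Opens.mem_iSup.2 ⟨⟨W, hW, hWV⟩, hz, hzW⟩
    rintro ⟨W, hW, hWV⟩
    refine Eq.trans ?_ (map_zero _).symm
    have h2 := hb ⟨i, W, hW, hWV⟩
    rw [← mem_map_iff_smul (v i ≫ p) J W] at h2
    have h3 := app_fst_eq_zero (v i ≫ p) J W h2
    have e : ((pullback.fst p _).app V ≫ m.app _) ≫ (pullback (v i ≫ p) _).presheaf.map
          (homOfLE (inf_le_left : (m ⁻¹ᵁ (pullback.fst p (Spec.map (CommRingCat.ofHom (Ideal.Quotient.mk J))) ⁻¹ᵁ V)) ⊓ f0 ⁻¹ᵁ W ≤ _)).op =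
        ((v i).appLE V W hWV ≫ f0.app W) ≫ (pullback (v i ≫ p) _).presheaf.map (homOfLE inf_le_right).op := by
      simp only [← Scheme.Hom.appLE_eq_app, Scheme.Hom.appLE_comp_appLE, Scheme.Hom.appLE_map, hm]
    have h4 := congrArg (fun f => f b) e
    simp only [CommRingCat.comp_apply] at h4
    exact h4.trans (by
      change ((pullback (v i ≫ p) _).presheaf.map (homOfLE inf_le_right).op) (f0.app W (φ ⟨i, W, hW, hWV⟩ b)) = 0
      rw [h3, map_zero])
  · show (v s.1).appLE V s.2.1 s.2.2.2 t = 0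
    rw [Scheme.Hom.appLE, CommRingCat.comp_apply, ht, map_zero]

/-- The statement for all opens. -/
theorem eq_zero_open {X : Scheme.{u}} (p : X ⟶ Spec A) [Flat p] (J : Ideal A) (hJ : IsNilpotent J)
    (hfree : ∀ k : ℕ, Module.Free (A ⧸ J) ((A ⧸ J) ⊗[A] ↥(J ^ k)))
    {ι : Type u} (Z : ι → Scheme.{u}) (v : ∀ i, Z i ⟶ X) [∀ i, Flat (v i ≫ p)]
    (h0 : ∀ (V : (pullback p (Spec.map (CommRingCat.ofHom (Ideal.Quotient.mk J)))).Opens) (t : Γ(pullback p (Spec.map (CommRingCat.ofHom (Ideal.Quotient.mk J))), V)),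
      (∀ i, (pullback.map (v i ≫ p) (Spec.map (CommRingCat.ofHom (Ideal.Quotient.mk J))) p (Spec.map (CommRingCat.ofHom (Ideal.Quotient.mk J))) (v i) (𝟙 _) (𝟙 _)
        (Category.comp_id _) ((Category.comp_id _).trans (Category.id_comp _).symm)).app V t = 0) → t = 0)
    (V : X.Opens) (t : Γ(X, V)) (ht : ∀ i, (v i).app V t = 0) : t = 0 := by
  refine TopCat.Sheaf.eq_of_locally_eq' X.sheaf (fun o : {W : X.Opens // IsAffineOpen W ∧ W ≤ V} => o.1) V
    (fun o => homOfLE o.2.2) (fun z hz => ?_) _ _ fun o => ?_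
  · obtain ⟨W, hW, hzW, hWV⟩ := exists_isAffineOpen_mem_and_subset (U := V) (x := z) hz
    exact TopologicalSpace.Opens.mem_iSup.2 ⟨⟨W, hW, hWV⟩, hzW⟩
  · refine Eq.trans ?_ (map_zero _).symm
    refine eq_zero_affine p J hJ hfree Z v h0 o.2.1 _ fun i => ?_
    have h := congrArg (fun f => f t) ((v i).naturality (homOfLE o.2.2).op)
    simp only [CommRingCat.comp_apply] at h
    exact h.trans (by rw [ht, map_zero])

end Groth.Agent.SchD38
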