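import Groth.Agent.SchD38.WeilDense
import Groth.Agent.RedPts82.FinTransporter
import Mathlib.AlgebraicGeometry.Noetherian

/-!
The closed subscheme of the base over which a commutative group with dense torsion lies in a closed subscheme.
-/

set_option autoImplicit false
set_option backward.isDefEq.respectTransparency.types false
universe u

open CategoryTheory MonoidalCategory CartesianMonoidalCategory MonObj GrpObj AlgebraicGeometry
open CategoryTheory.Limits

noncomputable section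

namespace Groth.Agent.SchD38

/-- An ascending directed family of ideal sheaves on a noetherian scheme has a largest member. -/
theorem exists_le_all {S : Scheme.{u}} [IsNoetherian S] {σ : Type u} [Nonempty σ] (I : σ → S.IdealSheafData)
    (hdir : ∀ a b, ∃ c, I a ≤ I c ∧ I b ≤ I c) : ∃ n, ∀ m, I m ≤ I n := by
  classical
  obtain ⟨s, hs⟩ := isCompact_univ.elim_finite_subcover (fun U : S.affineOpens => (U.1 : Set S))
    (fun U => U.1.2) (fun x _ => by
      obtain ⟨U, hU, hx, -⟩ := exists_isAffineOpen_mem_and_subset (U := (⊤ : S.Opens)) (x := x) trivial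
      exact Set.mem_iUnion.2 ⟨⟨U, hU⟩, hx⟩)
  have hmax : ∀ U : S.affineOpens, ∃ n, ∀ m, (I m).ideal U ≤ (I n).ideal U := fun U => by
    have : IsNoetherianRing Γ(S, U) := IsLocallyNoetherian.component_noetherian U
    obtain ⟨_, ⟨n, rfl⟩, hn⟩ := WellFounded.has_min wellFounded_gt (Set.range fun n => (I n).ideal U) (Set.range_nonempty _)
    refine ⟨n, fun m => ?_⟩
    obtain ⟨c, hmc, hnc⟩ := hdir m n
    rcases (hnc U).lt_or_eq with hlt | heq
    · exact absurd hlt (hn _ ⟨c, rfl⟩)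
    · exact (hmc U).trans heq.ge
  choose n hn using hmax
  obtain ⟨N, hN⟩ : ∃ N, ∀ U ∈ s, I (n U) ≤ I N := by
    clear hs
    induction s using Finset.induction_on with
    | empty => exact ⟨Classical.arbitrary σ, by simp⟩
    | insert U s hU ih =>
      obtain ⟨N, hN⟩ := ih
      obtain ⟨c, hUc, hNc⟩ := hdir (n U) N
      refine ⟨c, fun V hV => ?_⟩
      rcases Finset.mem_insert.1 hV with rfl | hV
      · exact hUc
      · exact (hN V hV).trans hNc
  refine ⟨N, fun m => ?_⟩
  refine Scheme.IdealSheafData.le_of_iSup_eq_top (fun U : s => U.1) (top_le_iff.1 fun x _ => ?_) fun U => ?_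
  · obtain ⟨U, hU⟩ := Set.mem_iUnion.1 (hs (Set.mem_univ x))
    obtain ⟨hUs, hx⟩ := Set.mem_iUnion.1 hU
    exact TopologicalSpace.Opens.mem_iSup.2 ⟨⟨U, hUs⟩, hx⟩
  · exact (hn U.1 m).trans (hN U.1 U.2 U.1)

variable {S : Scheme.{u}} (H : Over S) [GrpObj H]

/-- The kernel of a power map. -/
abbrev tors (n : ℕ) : pullback η[H].left (𝟙 H ^ n : H ⟶ H).left ⟶ H.left :=
  pullback.snd η[H].left (𝟙 H ^ n : H ⟶ H).left

/-- The kernels increase along divisibility. -/
theorem exists_tors_le (a b : ℕ) :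
    ∃ k : pullback η[H].left (𝟙 H ^ a : H ⟶ H).left ⟶ pullback η[H].left (𝟙 H ^ (a * b) : H ⟶ H).left,
      k ≫ tors H (a * b) = tors H a := by
  let X : Over S := Over.mk (tors H a ≫ H.hom)
  let h : X ⟶ H := Over.homMk (tors H a) rfl
  have hpow : ∀ n : ℕ, h ≫ (𝟙 H ^ n : H ⟶ H) = h ^ n := fun n => by rw [MonObj.comp_pow, Category.comp_id]
  have hfst : (toUnit X : X ⟶ 𝟙_ (Over S)).left = pullback.fst η[H].left (𝟙 H ^ a : H ⟶ H).left := by
    have e := congrArg (· ≫ H.hom) (pullback.condition (f := η[H].left) (g := (𝟙 H ^ a : H ⟶ H).left))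
    simp only [Category.assoc] at e
    rw [Over.w (𝟙 H ^ a : H ⟶ H), Over.w η[H]] at e
    exact (Category.comp_id (toUnit X : X ⟶ 𝟙_ (Over S)).left).symm.trans
      ((Over.w (toUnit X : X ⟶ 𝟙_ (Over S))).trans (e.symm.trans (Category.comp_id _)))
  have ha : h ^ a = 1 := by
    rw [← hpow, Hom.one_def]
    refine Over.OverMorphism.ext ?_
    rw [Over.comp_left, Over.comp_left, hfst]
    exact pullback.condition.symm
  have hab : h ≫ (𝟙 H ^ (a * b) : H ⟶ H) = toUnit X ≫ η[H] := by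
    rw [hpow, pow_mul, ha, one_pow, Hom.one_def]
  exact ⟨pullback.lift (toUnit X : X ⟶ 𝟙_ (Over S)).left (tors H a) (congrArg CommaMorphism.left hab).symm,
    pullback.lift_snd _ _ _⟩

variable [IsLocallyNoetherian S] [LocallyOfFiniteType H.hom]

/-- The representability, with the uniform exponent on a noetherian base. -/
theorem exists_torsion_weil (E : Set ℕ) (hE : E.Nonempty) (hEmul : ∀ m ∈ E, ∀ n ∈ E, m * n ∈ E)
    (ha : ∀ n ∈ E, IsFinite (tors H n ≫ H.hom) ∧ Flat (tors H n ≫ H.hom))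
    (hb : ∀ (s : S) (V : (H.hom.fiber s).Opens) (t : Γ(H.hom.fiber s, V)),
      (∀ n ∈ E, (MoreMor.fiberMap (tors H n) H.hom s).app V t = 0) → t = 0)
    (Y : Scheme.{u}) (y : Y ⟶ H.left) [IsClosedImmersion y] :
    (∃ (T : Scheme.{u}) (t : T ⟶ S), IsClosedImmersion t ∧
      ∀ (S' : Scheme.{u}) (g : S' ⟶ S), (∃ g' : S' ⟶ T, g' ≫ t = g) ↔
        ∃ l : pullback H.hom g ⟶ Y, l ≫ y = pullback.fst H.hom g) ∧
    (IsNoetherian S → ∃ n ∈ E, ∀ (S' : Scheme.{u}) (g : S' ⟶ S),
      (∃ l : pullback H.hom g ⟶ Y, l ≫ y = pullback.fst H.hom g) ↔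
        ∃ l : pullback (tors H n ≫ H.hom) g ⟶ Y, l ≫ y = pullback.fst (tors H n ≫ H.hom) g ≫ tors H n) := by
  have : IsLocallyNoetherian H.left := LocallyOfFiniteType.isLocallyNoetherian H.hom
  let tn : ∀ n : ULift.{u} E, _ ⟶ H.left := fun n => tors H n.down.1
  have hfl : ∀ n, Flat (tn n ≫ H.hom) := fun n => (ha _ n.down.2).2
  have hfree : ∀ n, SGA3x.IsEssentiallyFree (tn n ≫ H.hom) := fun n => by
    have := (ha _ n.down.2).1
    have := (ha _ n.down.2).2
    have : LocallyOfFinitePresentation (tn n ≫ H.hom) := inferInstance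
    exact RedPts82.isEssentiallyFree_of_finite_flat _
  obtain ⟨I, hI, hsup⟩ := exists_ideal H.hom tn y hfree fun s V t ht => hb s V t fun n hn => ht ⟨⟨n, hn⟩⟩
  refine ⟨⟨_, (⨆ n, I n).subschemeι, inferInstance, fun S' g =>
    (factors_subschemeι_iff _ g).trans (hsup S' g)⟩, fun hS => ?_⟩
  have hmono : ∀ a b : ULift.{u} E, I a ≤ I ⟨⟨a.down.1 * b.down.1, hEmul _ a.down.2 _ b.down.2⟩⟩ := fun a b => by
    obtain ⟨k, hk⟩ := exists_tors_le H a.down.1 b.down.1
    let c : ULift.{u} E := ⟨⟨a.down.1 * b.down.1, hEmul _ a.down.2 _ b.down.2⟩⟩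
    have h1 := (hI c _ (I c).subschemeι).1 (I c).ker_subschemeι.ge
    obtain ⟨l, hl⟩ := h1
    have hw : (pullback.fst (tn a ≫ H.hom) (I c).subschemeι ≫ k) ≫ tn c ≫ H.hom =
        pullback.snd (tn a ≫ H.hom) (I c).subschemeι ≫ (I c).subschemeι := by
      rw [← pullback.condition, Category.assoc]
      exact congrArg (pullback.fst _ _ ≫ ·) ((Category.assoc _ _ _).symm.trans (congrArg (· ≫ H.hom) hk))
    have h2 := (hI a _ (I c).subschemeι).2 ⟨pullback.lift _ _ hw ≫ l, by
      rw [Category.assoc, hl, pullback.lift_fst_assoc, Category.assoc]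
      exact congrArg (pullback.fst _ _ ≫ ·) hk⟩
    exact h2.trans (I c).ker_subschemeι.le
  have : Nonempty (ULift.{u} E) := ⟨⟨⟨_, hE.some_mem⟩⟩⟩
  obtain ⟨N, hN⟩ := exists_le_all I fun a b => ⟨_, hmono a b, by
    refine (hmono b a).trans (le_of_eq (congrArg I ?_))
    exact ULift.ext _ _ (Subtype.ext (mul_comm _ _))⟩
  refine ⟨N.down.1, N.down.2, fun S' g => ?_⟩
  rw [← hsup S' g]
  exact Iff.trans ⟨(le_iSup I N).trans, fun h => (iSup_le hN).trans h⟩ (hI N S' g)

end Groth.Agent.SchD38
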