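import Groth.Agent.SchD38.WeilDense
import Mathlib.RingTheory.FiniteStability
import Mathlib.AlgebraicGeometry.PullbackCarrier
import Mathlib.AlgebraicGeometry.Morphisms.FiniteType

/-!
The locus over which a closed subscheme contains a base change, from a fibrewise dense family of essentially
free subschemes of the original scheme.
-/

set_option autoImplicit false
set_option backward.isDefEq.respectTransparency.types false
universe u

open CategoryTheory AlgebraicGeometry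
open CategoryTheory.Limits
open scoped TensorProduct

noncomputable section

namespace Groth.Agent.SchD38

variable {S H G Y : Scheme.{u}} (f : H ⟶ S) (p : G ⟶ S) {σ₀ : Type u} {Z : σ₀ → Scheme.{u}} (ι : ∀ n, Z n ⟶ H)
  (y : Y ⟶ pullback f p) [IsClosedImmersion y]

section Chart

variable {U : S.Opens} (hU : IsAffineOpen U) {V : H.Opens} (hV : IsAffineOpen V) (hVU : V ≤ f ⁻¹ᵁ U)
  {U' : G.Opens} (hU' : IsAffineOpen U') (hU'U : U' ≤ p ⁻¹ᵁ U)
  [Algebra Γ(S, U) Γ(H, V)] [Algebra Γ(S, U) Γ(G, U')]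

include hU in
/-- The standard chart of the base change. -/
theorem exists_chart (hB : algebraMap Γ(S, U) Γ(H, V) = (f.appLE U V hVU).hom)
    (hR : algebraMap Γ(S, U) Γ(G, U') = (p.appLE U U' hU'U).hom) :
    ∃ u : Spec (CommRingCat.of (Γ(G, U') ⊗[Γ(S, U)] Γ(H, V))) ⟶ pullback f p, IsOpenImmersion u ∧
      u ≫ pullback.fst f p =
        Spec.map (CommRingCat.ofHom (Algebra.TensorProduct.includeRight (R := Γ(S, U)) (A := Γ(G, U'))).toRingHom) ≫
          hV.fromSpec ∧
      u ≫ pullback.snd f p =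
        Spec.map (CommRingCat.ofHom (Algebra.TensorProduct.includeLeftRingHom (R := Γ(S, U)) (B := Γ(H, V)))) ≫
          hU'.fromSpec ∧
      ∀ z, pullback.fst f p z ∈ V → pullback.snd f p z ∈ U' → z ∈ Set.range u := by
  let a₁ := Spec.map (CommRingCat.ofHom (algebraMap Γ(S, U) Γ(H, V)))
  let a₂ := Spec.map (CommRingCat.ofHom (algebraMap Γ(S, U) Γ(G, U')))
  have e₁ : a₁ ≫ hU.fromSpec = hV.fromSpec ≫ f := by
    rw [← IsAffineOpen.SpecMap_appLE_fromSpec f hU hV hVU]
    simp only [a₁, hB]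
    rfl
  have e₂ : a₂ ≫ hU.fromSpec = hU'.fromSpec ≫ p := by
    rw [← IsAffineOpen.SpecMap_appLE_fromSpec p hU hU' hU'U]
    simp only [a₂, hR]
    rfl
  let m := pullback.map a₁ a₂ f p hV.fromSpec hU'.fromSpec hU.fromSpec e₁ e₂
  let e := (pullbackSpecIso Γ(S, U) Γ(G, U') Γ(H, V)).inv ≫ (pullbackSymmetry a₂ a₁).hom
  refine ⟨e ≫ m, inferInstance, ?_, ?_, fun z hz hz' => ?_⟩
  · rw [Category.assoc, pullback.lift_fst]
    simp only [e, Category.assoc, pullbackSymmetry_hom_comp_fst_assoc]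
    exact pullbackSpecIso_inv_snd_assoc _ _ _ _
  · rw [Category.assoc, pullback.lift_snd]
    simp only [e, Category.assoc, pullbackSymmetry_hom_comp_snd_assoc]
    exact pullbackSpecIso_inv_fst_assoc _ _ _ _
  · obtain ⟨w, hw⟩ : z ∈ Set.range m := by
      rw [Scheme.Pullback.range_map, hV.range_fromSpec, hU'.range_fromSpec]
      exact ⟨hz, hz'⟩
    refine ⟨(inv e) w, ?_⟩
    rw [← Scheme.Hom.comp_apply, IsIso.inv_hom_id_assoc, hw]

end Chart

variable [IsLocallyNoetherian S] [IsLocallyNoetherian G] [LocallyOfFiniteType f] [∀ n, Flat (ι n ≫ f)]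

/-- The base change lies in the closed subscheme over the intersection of the loci of the members. -/
theorem exists_lift_bc
    (hd : ∀ (s : S) (V' : (f.fiber s).Opens) (t : Γ(f.fiber s, V')),
      (∀ n, (MoreMor.fiberMap (ι n) f s).app V' t = 0) → t = 0)
    (I : σ₀ → G.IdealSheafData)
    (hI : ∀ n (S' : Scheme.{u}) (g : S' ⟶ G), I n ≤ g.ker →
      ∃ l : pullback (bcMap f ι n p ≫ pullback.snd f p) g ⟶ Y,
        l ≫ y = pullback.fst (bcMap f ι n p ≫ pullback.snd f p) g ≫ bcMap f ι n p) :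
    ∃ l : pullback (pullback.snd f p) (⨆ n, I n).subschemeι ⟶ Y,
      l ≫ y = pullback.fst (pullback.snd f p) (⨆ n, I n).subschemeι := by
  classical
  let J := ⨆ n, I n
  let P := pullback (pullback.snd f p) J.subschemeι
  let a : P ⟶ pullback f p := pullback.fst _ _
  let b : P ⟶ J.subscheme := pullback.snd _ _
  have hcov : ∀ z : P, ∃ (U : S.affineOpens) (V : H.affineOpens) (U' : G.affineOpens),
      V.1 ≤ f ⁻¹ᵁ U.1 ∧ U'.1 ≤ p ⁻¹ᵁ U.1 ∧ pullback.fst f p (a z) ∈ V.1 ∧ pullback.snd f p (a z) ∈ U'.1 := fun z => by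
    obtain ⟨U, hU, hxU, -⟩ := exists_isAffineOpen_mem_and_subset (U := (⊤ : S.Opens))
      (x := f (pullback.fst f p (a z))) trivial
    obtain ⟨V, hV, hxV, hVU⟩ := exists_isAffineOpen_mem_and_subset (U := f ⁻¹ᵁ U) (x := pullback.fst f p (a z)) hxU
    have hx' : p (pullback.snd f p (a z)) ∈ U := by
      rw [← Scheme.Hom.comp_apply, ← pullback.condition]
      exact hxU
    obtain ⟨U', hU', hxU', hU'U⟩ := exists_isAffineOpen_mem_and_subset (U := p ⁻¹ᵁ U) (x := pullback.snd f p (a z)) hx'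
    exact ⟨⟨U, hU⟩, ⟨V, hV⟩, ⟨U', hU'⟩, hVU, hU'U, hxV, hxU'⟩
  choose U V U' hVU hU'U hmV hmU' using hcov
  choose W hW hzW hWsub using fun z : P => exists_isAffineOpen_mem_and_subset (x := z)
    (U := a ⁻¹ᵁ (pullback.fst f p ⁻¹ᵁ (V z).1 ⊓ pullback.snd f p ⁻¹ᵁ (U' z).1)) ⟨hmV z, hmU' z⟩
  let 𝒰 := P.openCoverOfIsOpenCover W (top_le_iff.1 fun z _ => TopologicalSpace.Opens.mem_iSup.2 ⟨z, hzW z⟩)
  refine SGA3a.exists_lift_of_openCover y a 𝒰 fun (z : P) => ?_
  show ∃ l, l ≫ y = (W z).ι ≫ a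
  let _ : Algebra Γ(S, U z) Γ(H, V z) := (f.appLE (U z) (V z) (hVU z)).hom.toAlgebra
  let _ : Algebra Γ(S, U z) Γ(G, U' z) := (p.appLE (U z) (U' z) (hU'U z)).hom.toAlgebra
  let _ : ∀ o : Piece ι (V z).1, Algebra Γ(S, U z) Γ(Z o.1, o.2.1) := fun o =>
    ((ι o.1 ≫ f).appLE (U z) o.2.1 (o.2.2.2.trans ((ι o.1).preimage_mono (hVU z)))).hom.toAlgebra
  have hflat : ∀ o : Piece ι (V z).1, Module.Flat Γ(S, U z) Γ(Z o.1, o.2.1) := fun o =>
    HasRingHomProperty.appLE @Flat (ι o.1 ≫ f) inferInstance (U z) ⟨o.2.1, o.2.2.1⟩ _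
  let φ : ∀ o : Piece ι (V z).1, Γ(H, V z) →ₐ[Γ(S, U z)] Γ(Z o.1, o.2.1) := fun o =>
    { ((ι o.1).appLE (V z) o.2.1 o.2.2.2).hom with
      commutes' := fun r => by
        have h := Scheme.Hom.appLE_comp_appLE (ι o.1) f (U z).1 (V z).1 o.2.1 (hVU z) o.2.2.2
        exact congrArg (fun k : Γ(S, U z) ⟶ Γ(Z o.1, o.2.1) => k r) h }
  have : IsNoetherianRing Γ(S, U z) := IsLocallyNoetherian.component_noetherian (U z)
  have : IsNoetherianRing Γ(G, U' z) := IsLocallyNoetherian.component_noetherian (U' z)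
  have : Algebra.FiniteType Γ(S, U z) Γ(H, V z) :=
    HasRingHomProperty.appLE @LocallyOfFiniteType f inferInstance (U z) (V z) (hVU z)
  have : IsNoetherianRing (Γ(G, U' z) ⊗[Γ(S, U z)] Γ(H, V z)) :=
    Algebra.FiniteType.isNoetherianRing Γ(G, U' z) _
  obtain ⟨u, hu, hu1, hu2, hu3⟩ := exists_chart f p (U z).2 (V z).2 (hVU z) (U' z).2 (hU'U z) rfl rfl
  let A : CommRingCat.{u} := CommRingCat.of (Γ(G, U' z) ⊗[Γ(S, U z)] Γ(H, V z))
  obtain ⟨Q, hQ, -⟩ := SGA3a.exists_lift_spec_iff (j := y) (A := A) u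
  -- the ideal of the closed subscheme on the chart lies in the extension of the ideal of the locus
  have hQJ : Q ≤ (J.ideal (U' z)).map
      (Algebra.TensorProduct.includeLeftRingHom : Γ(G, U' z) →+* Γ(G, U' z) ⊗[Γ(S, U z)] Γ(H, V z)) := fun c hc => by
    refine mem_map_of_forall (R := Γ(S, U z)) φ
      (fun L _ _ β hβ => injective_of_fibre_dense f ι (U z).2 (V z).2 (hVU z) hd rfl (fun _ => rfl) φ
        (fun _ _ => rfl) L β hβ) _ c fun o => ?_
    obtain ⟨n, W', hW', hWV⟩ := o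
    let o : Piece ι (V z).1 := ⟨n, W', hW', hWV⟩
    let C := Γ(G, U' z) ⊗[Γ(S, U z)] Γ(Z o.1, o.2.1)
    let K : Ideal C := (J.ideal (U' z)).map Algebra.TensorProduct.includeLeftRingHom
    let m : A ⟶ CommRingCat.of C := CommRingCat.ofHom (Algebra.TensorProduct.map (AlgHom.id Γ(S, U z) Γ(G, U' z)) (φ o)).toRingHom
    let q : CommRingCat.of C ⟶ CommRingCat.of (C ⧸ K) := CommRingCat.ofHom (Ideal.Quotient.mk K)
    let inl : Γ(G, U' z) ⟶ CommRingCat.of C := CommRingCat.ofHom Algebra.TensorProduct.includeLeftRingHom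
    let inr : Γ(Z o.1, o.2.1) ⟶ CommRingCat.of C :=
      CommRingCat.ofHom (Algebra.TensorProduct.includeRight (R := Γ(S, U z)) (A := Γ(G, U' z))).toRingHom
    let g : CommRingCat.of (Γ(G, U' z) ⧸ J.ideal (U' z)) ⟶ CommRingCat.of (C ⧸ K) :=
      CommRingCat.ofHom (Ideal.quotientMap K inl.hom Ideal.le_comap_map)
    let uT : Spec (CommRingCat.of (C ⧸ K)) ⟶ J.subscheme := Spec.map g ≫ J.subschemeCover.f (U' z)
    let w := Spec.map q ≫ Spec.map m ≫ u
    have hm1 : CommRingCat.ofHom (Algebra.TensorProduct.includeRight (R := Γ(S, U z)) (A := Γ(G, U' z))).toRingHom ≫ m =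
        (ι n).appLE (V z) W' hWV ≫ inr := by
      refine CommRingCat.hom_ext (RingHom.ext fun x => ?_)
      show Algebra.TensorProduct.map (AlgHom.id Γ(S, U z) Γ(G, U' z)) (φ o) (1 ⊗ₜ x) = _
      rw [Algebra.TensorProduct.map_tmul, map_one]
      rfl
    have hm2 : CommRingCat.ofHom (Algebra.TensorProduct.includeLeftRingHom (R := Γ(S, U z)) (B := Γ(H, V z))) ≫ m = inl := by
      refine CommRingCat.hom_ext (RingHom.ext fun x => ?_)
      show Algebra.TensorProduct.map (AlgHom.id Γ(S, U z) Γ(G, U' z)) (φ o) (x ⊗ₜ 1) = _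
      rw [Algebra.TensorProduct.map_tmul, map_one]
      rfl
    have hw1 : w ≫ pullback.fst f p = (Spec.map q ≫ Spec.map inr ≫ hW'.fromSpec) ≫ ι n := by
      simp only [w, Category.assoc, hu1]
      rw [← IsAffineOpen.SpecMap_appLE_fromSpec (ι n) (V z).2 hW' hWV]
      simp only [← Spec.map_comp_assoc, Category.assoc]
      rw [reassoc_of% hm1]
    have hw2 : w ≫ pullback.snd f p = Spec.map q ≫ Spec.map inl ≫ (U' z).2.fromSpec := by
      simp only [w, Category.assoc, hu2]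
      rw [← Spec.map_comp_assoc _ m, hm2]
    have hwZ : (Spec.map q ≫ Spec.map inr ≫ hW'.fromSpec) ≫ ι n ≫ f = (w ≫ pullback.snd f p) ≫ p := by
      rw [← Category.assoc, ← hw1, Category.assoc, Category.assoc, pullback.condition]
      simp only [w, Category.assoc]
    let v := pullback.lift (f := ι n ≫ f) (g := p) (Spec.map q ≫ Spec.map inr ≫ hW'.fromSpec) (w ≫ pullback.snd f p) hwZ
    have hv : v ≫ bcMap f ι n p = w := by
      apply pullback.hom_ext
      · rw [Category.assoc, pullback.lift_fst, pullback.lift_fst_assoc, hw1]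
      · rw [Category.assoc, pullback.lift_snd, pullback.lift_snd]
    have huT : v ≫ bcMap f ι n p ≫ pullback.snd f p = uT ≫ J.subschemeι := by
      rw [← Category.assoc, hv, hw2]
      refine Eq.symm ((Category.assoc _ _ _).trans ((congrArg (Spec.map g ≫ ·)
        ((J.subschemeCover_map_subschemeι (U' z)).trans (J.glueDataObjι_ι (U' z)))).trans ?_))
      show Spec.map g ≫ Spec.map (CommRingCat.ofHom (Ideal.Quotient.mk (J.ideal (U' z)))) ≫ (U' z).2.fromSpec = _
      rw [← Spec.map_comp_assoc, ← Spec.map_comp_assoc]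
      rfl
    obtain ⟨l, hl⟩ := hI n _ J.subschemeι ((le_iSup I n).trans J.ker_subschemeι.ge)
    have hlQ := (hQ (CommRingCat.of (C ⧸ K)) (m ≫ q)).1 ⟨pullback.lift v uT huT ≫ l, by
      rw [Category.assoc, hl, pullback.lift_fst_assoc, hv, Spec.map_comp, Category.assoc]⟩
    exact Ideal.Quotient.eq_zero_iff_mem.1 (hlQ hc)
  -- the piece of the cover factors through the chart
  haveI : IsAffine (W z).toScheme := hW z
  have hr : Set.range ((W z).toScheme.isoSpec.inv ≫ (W z).ι ≫ a) ⊆ Set.range u := by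
    rintro _ ⟨x, rfl⟩
    have hx := hWsub z ((W z).toScheme.isoSpec.inv x).2
    exact hu3 _ hx.1 hx.2
  obtain ⟨χ, hχ⟩ : ∃ χ, Spec.map χ = IsOpenImmersion.lift u _ hr := ⟨_, Spec.map_preimage _⟩
  have hχu : Spec.map χ ≫ u = (W z).toScheme.isoSpec.inv ≫ (W z).ι ≫ a := by rw [hχ, IsOpenImmersion.lift_fac]
  have hJχ : (J.ideal (U' z)).map (Algebra.TensorProduct.includeLeftRingHom : Γ(G, U' z) →+* Γ(G, U' z) ⊗[Γ(S, U z)] Γ(H, V z)) ≤
      RingHom.ker χ.hom := by
    refine Ideal.map_le_iff_le_comap.2 fun r hr => ?_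
    show χ (r ⊗ₜ 1) = 0
    let ρ : Γ(G, U' z) ⟶ Γ((W z).toScheme, ⊤) :=
      CommRingCat.ofHom (Algebra.TensorProduct.includeLeftRingHom (R := Γ(S, U z)) (B := Γ(H, V z))) ≫ χ
    have hJ : J ≤ (Spec.map ρ ≫ (U' z).2.fromSpec).ker := by
      refine (factors_subschemeι_iff J _).1 ⟨(W z).toScheme.isoSpec.inv ≫ (W z).ι ≫ b, ?_⟩
      simp only [Category.assoc]
      rw [show b ≫ J.subschemeι = a ≫ pullback.snd f p from pullback.condition.symm, ← reassoc_of% hχu, hu2,
        Spec.map_comp, Category.assoc]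
    have h2 := hJ (U' z) hr
    rw [Scheme.Hom.ker_apply, RingHom.mem_ker] at h2
    have h3 : (Spec.map ρ ≫ (U' z).2.fromSpec).appLE (U' z) ⊤ (top_le_preimage_fromSpec (U' z).2 ρ) r = 0 := by
      rw [Scheme.Hom.appLE, CommRingCat.comp_apply, h2]
      exact map_zero _
    rw [appLE_specMap_fromSpec (U' z).2 ρ] at h3
    exact (ConcreteCategory.bijective_of_isIso (Scheme.ΓSpecIso _).inv).injective (h3.trans (map_zero _).symm)
  obtain ⟨l, hl⟩ := (hQ _ χ).2 (hQJ.trans hJχ)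
  exact ⟨(W z).toScheme.isoSpec.hom ≫ l, by rw [Category.assoc, hl, hχu, Iso.hom_inv_id_assoc]⟩

/-- The locus is cut out by the sum of the ideals of the members. -/
theorem exists_ideal_bc
    (hfree : ∀ n, SGA3x.IsEssentiallyFree (bcMap f ι n p ≫ pullback.snd f p))
    (hd : ∀ (s : S) (V' : (f.fiber s).Opens) (t : Γ(f.fiber s, V')),
      (∀ n, (MoreMor.fiberMap (ι n) f s).app V' t = 0) → t = 0) :
    ∃ I : σ₀ → G.IdealSheafData,
      (∀ n (S' : Scheme.{u}) (g : S' ⟶ G), I n ≤ g.ker ↔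
        ∃ l : pullback (bcMap f ι n p ≫ pullback.snd f p) g ⟶ Y,
          l ≫ y = pullback.fst (bcMap f ι n p ≫ pullback.snd f p) g ≫ bcMap f ι n p) ∧
      ∀ (S' : Scheme.{u}) (g : S' ⟶ G), (⨆ n, I n) ≤ g.ker ↔
        ∃ l : pullback (pullback.snd f p) g ⟶ Y, l ≫ y = pullback.fst (pullback.snd f p) g := by
  choose I hI using fun n => exists_member_ideal (pullback.snd f p) y (bcMap f ι n p) (hfree n)
  refine ⟨I, hI, fun S' g => ⟨fun h => ?_, ?_⟩⟩
  · obtain ⟨g', hg'⟩ := (factors_subschemeι_iff (⨆ n, I n) g).2 h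
    obtain ⟨l, hl⟩ := exists_lift_bc f p ι y hd I fun n S' g h => (hI n S' g).1 h
    refine ⟨pullback.lift (pullback.fst (pullback.snd f p) g) (pullback.snd (pullback.snd f p) g ≫ g') (by
      rw [Category.assoc, hg']; exact pullback.condition) ≫ l, ?_⟩
    rw [Category.assoc, hl, pullback.lift_fst]
  · rintro ⟨l, hl⟩
    refine iSup_le fun n => (hI n S' g).2
      ⟨pullback.lift (pullback.fst (bcMap f ι n p ≫ pullback.snd f p) g ≫ bcMap f ι n p)
        (pullback.snd (bcMap f ι n p ≫ pullback.snd f p) g)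
        (by rw [Category.assoc]; exact pullback.condition) ≫ l, ?_⟩
    rw [Category.assoc, hl, pullback.lift_fst]

end Groth.Agent.SchD38
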