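import Groth.Agent.SchD38.Torsion
import Groth.Agent.SchD38.BaseChange

/-!
Transporters of a commutative group with dense torsion into a closed subgroup.
-/

set_option autoImplicit false
set_option backward.isDefEq.respectTransparency.types false
universe u

open CategoryTheory MonoidalCategory CartesianMonoidalCategory MonObj GrpObj AlgebraicGeometry
open CategoryTheory.Limits

noncomputable section

namespace Groth.Agent.SchD38

variable {S : Scheme.{u}} {H G K : Over S} [GrpObj H] [GrpObj G] (u : H ⟶ G) (k : K ⟶ G)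

/-- Conjugation of the image. -/
abbrev conjMap : H ⊗ G ⟶ G := snd H G * (fst H G ≫ u) * (snd H G)⁻¹

omit [GrpObj H] in
theorem lift_conjMap {X : Over S} (h : X ⟶ H) (g : X ⟶ G) :
    CartesianMonoidalCategory.lift h g ≫ conjMap u = g * (h ≫ u) * g⁻¹ := by
  simp only [conjMap, MonObj.comp_mul, GrpObj.comp_inv, lift_snd, lift_fst_assoc]

omit [GrpObj H] in
/-- Factoring of a base change through the preimage of the subgroup, in terms of points. -/
theorem exists_lift_iff_points {Q : Scheme.{u}} (j : Q ⟶ (H ⊗ G).left) (sj : Q ⟶ G.left)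
    (hsj : j ≫ (snd H G).left = sj) (Pr : ∀ X' : Over S, (X' ⟶ H) → Prop)
    (hj : ∀ (X' : Over S) (m : X' ⟶ H ⊗ G), (∃ q, q ≫ j = m.left) ↔ Pr X' (m ≫ fst H G))
    (X : Over S) (g : X ⟶ G) :
    (∃ l : pullback sj g.left ⟶ pullback k.left (conjMap u).left,
        l ≫ pullback.snd k.left (conjMap u).left = pullback.fst sj g.left ≫ j) ↔
      ∀ (X' : Over S) (x : X' ⟶ X) (h : X' ⟶ H), Pr X' h →
        ∃ κ : X' ⟶ K, (x ≫ g) * (h ≫ u) * (x ≫ g)⁻¹ = κ ≫ k := by
  constructor
  · rintro ⟨l, hl⟩ X' x h hh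
    let m : X' ⟶ H ⊗ G := CartesianMonoidalCategory.lift h (x ≫ g)
    obtain ⟨q, hq⟩ := (hj X' m).2 (by rwa [lift_fst])
    have hw : q ≫ sj = x.left ≫ g.left := by
      rw [← hsj, ← Category.assoc, hq, ← Over.comp_left, lift_snd, Over.comp_left]
    let q' := pullback.lift q x.left hw ≫ l
    have hq' : q' ≫ pullback.snd k.left (conjMap u).left = m.left := by
      rw [Category.assoc, hl, pullback.lift_fst_assoc, hq]
    have hk : (q' ≫ pullback.fst k.left (conjMap u).left) ≫ k.left = (m ≫ conjMap u).left := by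
      rw [Category.assoc, pullback.condition, ← Category.assoc, hq', Over.comp_left]
    refine ⟨Over.homMk (q' ≫ pullback.fst k.left (conjMap u).left) ?_, ?_⟩
    · rw [← Over.w k, ← Category.assoc, hk, Over.w (m ≫ conjMap u)]
    · rw [← lift_conjMap]
      exact Over.OverMorphism.ext hk.symm
  · intro hP
    let X' : Over S := Over.mk ((pullback.fst sj g.left ≫ j) ≫ (H ⊗ G).hom)
    let m : X' ⟶ H ⊗ G := Over.homMk (pullback.fst sj g.left ≫ j) rfl
    let x : X' ⟶ X := Over.homMk (pullback.snd sj g.left) (by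
      show pullback.snd sj g.left ≫ X.hom = (pullback.fst sj g.left ≫ j) ≫ (H ⊗ G).hom
      rw [← Over.w g, ← pullback.condition_assoc, ← hsj, Category.assoc, Category.assoc, Over.w (snd H G)])
    have hxg : x ≫ g = m ≫ snd H G := Over.OverMorphism.ext (by
      show pullback.snd sj g.left ≫ g.left = (pullback.fst sj g.left ≫ j) ≫ (snd H G).left
      rw [Category.assoc, hsj, pullback.condition])
    obtain ⟨κ, hκ⟩ := hP X' x (m ≫ fst H G) ((hj X' m).1 ⟨pullback.fst sj g.left, rfl⟩)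
    rw [hxg, ← lift_conjMap, lift_comp_fst_snd] at hκ
    exact ⟨pullback.lift κ.left m.left (congrArg CommaMorphism.left hκ).symm, pullback.lift_snd _ _ _⟩

omit [GrpObj G] in
/-- A point factors through the base change of a kernel iff it is killed by the power. -/
theorem exists_fac_tors_iff (n : ℕ) (X' : Over S) (m : X' ⟶ H ⊗ G) :
    (∃ q, q ≫ bcMap H.hom (fun _ : PUnit.{u + 1} => tors H n) PUnit.unit G.hom = m.left) ↔
      (m ≫ fst H G) ^ n = 1 := by
  let h := m ≫ fst H G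
  have hpow : h ≫ (𝟙 H ^ n : H ⟶ H) = h ^ n := by rw [MonObj.comp_pow, Category.comp_id]
  constructor
  · rintro ⟨q, hq⟩
    have h1 : (q ≫ pullback.fst (tors H n ≫ H.hom) G.hom) ≫ tors H n = h.left := by
      have := congrArg (· ≫ pullback.fst H.hom G.hom) hq
      simp only [Category.assoc, pullback.lift_fst] at this
      rw [Category.assoc]
      exact this
    rw [← hpow, Hom.one_def]
    refine Over.OverMorphism.ext ?_
    show h.left ≫ (𝟙 H ^ n : H ⟶ H).left = (toUnit X' : X' ⟶ 𝟙_ (Over S)).left ≫ η[H].left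
    rw [← h1, Category.assoc, ← pullback.condition]
    rw [← Category.assoc (q ≫ pullback.fst (tors H n ≫ H.hom) G.hom)]
    refine congrArg (· ≫ η[H].left) ?_
    have e := congrArg (fun t => t ≫ H.hom) (pullback.condition (f := η[H].left) (g := (𝟙 H ^ n : H ⟶ H).left))
    simp only [Category.assoc] at e
    rw [Over.w (𝟙 H ^ n : H ⟶ H), Over.w η[H]] at e
    have e2 : (q ≫ pullback.fst (tors H n ≫ H.hom) G.hom) ≫ tors H n ≫ H.hom = X'.hom := by
      rw [← Category.assoc, h1, Over.w h]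
    refine Eq.trans ?_ ((Over.w (toUnit X' : X' ⟶ 𝟙_ (Over S))).symm.trans (Category.comp_id _))
    rw [← e2]
    exact congrArg ((q ≫ pullback.fst (tors H n ≫ H.hom) G.hom) ≫ ·) ((Category.comp_id _).symm.trans e)
  · intro hn
    have hh : h ≫ (𝟙 H ^ n : H ⟶ H) = toUnit X' ≫ η[H] := by rw [hpow, hn, Hom.one_def]
    let c := pullback.lift (toUnit X' : X' ⟶ 𝟙_ (Over S)).left h.left (congrArg CommaMorphism.left hh).symm
    have hc : c ≫ tors H n = h.left := pullback.lift_snd _ _ _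
    refine ⟨pullback.lift c (m ≫ snd H G).left ?_, pullback.hom_ext ?_ ?_⟩
    · rw [← Category.assoc, hc, Over.w h, Over.w (m ≫ snd H G)]
    · simp only [Category.assoc, pullback.lift_fst, pullback.lift_fst_assoc, hc]
      rfl
    · simp only [Category.assoc, pullback.lift_snd]
      rfl

variable [IsLocallyNoetherian S] [LocallyOfFiniteType H.hom] [LocallyOfFiniteType G.hom]

/-- Transporters into closed subgroups are closed, with a uniform exponent on a noetherian group. -/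
theorem exists_torsion_transporter (E : Set ℕ) (hE : E.Nonempty) (hEmul : ∀ m ∈ E, ∀ n ∈ E, m * n ∈ E)
    (ha : ∀ n ∈ E, IsFinite (tors H n ≫ H.hom) ∧ Flat (tors H n ≫ H.hom))
    (hb : ∀ (s : S) (V : (H.hom.fiber s).Opens) (t : Γ(H.hom.fiber s, V)),
      (∀ n ∈ E, (MoreMor.fiberMap (tors H n) H.hom s).app V t = 0) → t = 0)
    [IsClosedImmersion k.left] :
    (∃ (T : Over S) (j : T ⟶ G), IsClosedImmersion j.left ∧
      ∀ (X : Over S) (g : X ⟶ G), (∃ t : X ⟶ T, t ≫ j = g) ↔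
        ∀ (X' : Over S) (x : X' ⟶ X) (h : X' ⟶ H), ∃ κ : X' ⟶ K, (x ≫ g) * (h ≫ u) * (x ≫ g)⁻¹ = κ ≫ k) ∧
    (AlgebraicGeometry.IsNoetherian G.left → ∃ n ∈ E, ∀ (X : Over S) (g : X ⟶ G),
      (∀ (X' : Over S) (x : X' ⟶ X) (h : X' ⟶ H), ∃ κ : X' ⟶ K, (x ≫ g) * (h ≫ u) * (x ≫ g)⁻¹ = κ ≫ k) ↔
        ∀ (X' : Over S) (x : X' ⟶ X) (h : X' ⟶ H), h ^ n = 1 →
          ∃ κ : X' ⟶ K, (x ≫ g) * (h ≫ u) * (x ≫ g)⁻¹ = κ ≫ k) := by
  have : IsLocallyNoetherian G.left := LocallyOfFiniteType.isLocallyNoetherian G.hom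
  let tn : ∀ n : ULift.{u} E, _ ⟶ H.left := fun n => tors H n.down.1
  have hfl : ∀ n, Flat (tn n ≫ H.hom) := fun n => (ha _ n.down.2).2
  have hfree : ∀ n, SGA3x.IsEssentiallyFree (bcMap H.hom tn n G.hom ≫ pullback.snd H.hom G.hom) := fun n => by
    rw [pullback.lift_snd]
    have := (ha _ n.down.2).1
    have := (ha _ n.down.2).2
    have : LocallyOfFinitePresentation (tn n ≫ H.hom) := inferInstance
    exact SGA3a.isEssentiallyFree_snd _ (RedPts82.isEssentiallyFree_of_finite_flat _)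
  let y := pullback.snd k.left (conjMap u).left
  have : IsClosedImmersion y := MorphismProperty.pullback_snd (P := @IsClosedImmersion) _ _ inferInstance
  obtain ⟨I, hI, hsup⟩ := exists_ideal_bc H.hom G.hom tn y hfree fun s V t ht => hb s V t fun n hn => ht ⟨⟨n, hn⟩⟩
  have hall : ∀ (X : Over S) (g : X ⟶ G), (⨆ n, I n) ≤ g.left.ker ↔
      ∀ (X' : Over S) (x : X' ⟶ X) (h : X' ⟶ H), ∃ κ : X' ⟶ K, (x ≫ g) * (h ≫ u) * (x ≫ g)⁻¹ = κ ≫ k := fun X g => by
    rw [hsup]
    refine Iff.trans ?_ ((exists_lift_iff_points u k (𝟙 (H ⊗ G).left) (snd H G).left (Category.id_comp _)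
      (fun _ _ => True) (fun X' m => iff_of_true ⟨m.left, Category.comp_id _⟩ trivial) X g).trans
        ⟨fun h X' x hh => h X' x hh trivial, fun h X' x hh _ => h X' x hh⟩)
    exact exists_congr fun l => ⟨fun e => e.trans (Category.comp_id _).symm, fun e => e.trans (Category.comp_id _)⟩
  have hmem : ∀ (n : ULift.{u} E) (X : Over S) (g : X ⟶ G), I n ≤ g.left.ker ↔
      ∀ (X' : Over S) (x : X' ⟶ X) (h : X' ⟶ H), h ^ n.down.1 = 1 →
        ∃ κ : X' ⟶ K, (x ≫ g) * (h ≫ u) * (x ≫ g)⁻¹ = κ ≫ k := fun n X g => by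
    rw [hI]
    exact exists_lift_iff_points u k (bcMap H.hom tn n G.hom) _ rfl (fun _ h => h ^ n.down.1 = 1)
      (fun X' m => exists_fac_tors_iff n.down.1 X' m) X g
  refine ⟨⟨Over.mk ((⨆ n, I n).subschemeι ≫ G.hom), Over.homMk (⨆ n, I n).subschemeι rfl,
    inferInstanceAs (IsClosedImmersion (⨆ n, I n).subschemeι), fun X g => ?_⟩, fun hG => ?_⟩
  · rw [← hall X g, ← factors_subschemeι_iff]
    constructor
    · rintro ⟨t, rfl⟩
      exact ⟨t.left, rfl⟩
    · rintro ⟨t, ht⟩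
      exact ⟨Over.homMk t (by
        show t ≫ (⨆ n, I n).subschemeι ≫ G.hom = X.hom
        rw [← Category.assoc, ht, Over.w g]), Over.OverMorphism.ext ht⟩
  have hmono : ∀ a b : ULift.{u} E, I a ≤ I ⟨⟨a.down.1 * b.down.1, hEmul _ a.down.2 _ b.down.2⟩⟩ := fun a b => by
    let c : ULift.{u} E := ⟨⟨a.down.1 * b.down.1, hEmul _ a.down.2 _ b.down.2⟩⟩
    let X : Over S := Over.mk ((I c).subschemeι ≫ G.hom)
    let g : X ⟶ G := Over.homMk (I c).subschemeι rfl
    have h1 := (hmem c X g).1 (I c).ker_subschemeι.ge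
    have h2 := (hmem a X g).2 fun X' x h hh => h1 X' x h (by
      show h ^ (a.down.1 * b.down.1) = 1
      rw [pow_mul, hh, one_pow])
    exact h2.trans (I c).ker_subschemeι.le
  have : Nonempty (ULift.{u} E) := ⟨⟨⟨_, hE.some_mem⟩⟩⟩
  obtain ⟨N, hN⟩ := exists_le_all I fun a b => ⟨_, hmono a b, by
    refine (hmono b a).trans (le_of_eq (congrArg I ?_))
    exact ULift.ext _ _ (Subtype.ext (mul_comm _ _))⟩
  refine ⟨N.down.1, N.down.2, fun X g => ?_⟩
  rw [← hall X g, ← hmem N X g]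
  exact ⟨(le_iSup I N).trans, fun h => (iSup_le hN).trans h⟩

end Groth.Agent.SchD38
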