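import Groth.Agent.SchD38.Graded
import Mathlib.RingTheory.Flat.Stability
import Mathlib.RingTheory.TensorProduct.Maps
import Mathlib.LinearAlgebra.TensorProduct.RightExactness
import Mathlib.RingTheory.LocalRing.Basic
import Mathlib.RingTheory.Localization.AtPrime.Basic
import Mathlib.RingTheory.Filtration
import Mathlib.RingTheory.Noetherian.Basic
import Mathlib.RingTheory.LocalProperties.Basic
import Mathlib.LinearAlgebra.Basis.VectorSpace

/-!
A family of maps to flat algebras which is jointly injective on every fibre is jointly injective modulo every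
ideal of a noetherian base.
-/

set_option autoImplicit false
universe u

open scoped TensorProduct

namespace Groth.Agent.SchD38

variable {R R' B : Type u} [CommRing R] [CommRing R'] [CommRing B] [Algebra R R'] [Algebra R B]
  {σ : Type u} {C : σ → Type u} [∀ i, CommRing (C i)] [∀ i, Algebra R (C i)] [∀ i, Module.Flat R (C i)]

/-- The step over a thickened point. -/
theorem eq_zero_thickening (φ : ∀ i, B →ₐ[R] C i) (A : Type u) [CommRing A] [Algebra R A] (J : Ideal A)
    [J.IsMaximal] (hJ : IsNilpotent J)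
    (hfib : ∀ β : (A ⧸ J) ⊗[R] B,
      (∀ i, Algebra.TensorProduct.map (AlgHom.id R (A ⧸ J)) (φ i) β = 0) → β = 0)
    (b : A ⊗[R] B) (hb : ∀ i, Algebra.TensorProduct.map (AlgHom.id R A) (φ i) b = 0) : b = 0 := by
  have hfree : ∀ k, Module.Free (A ⧸ J) ((A ⧸ J) ⊗[A] ↥(J ^ k)) := fun k => by
    let := Ideal.Quotient.field J
    exact Module.Free.of_divisionRing _ _
  refine eq_zero_of_forall J hJ hfree (M := A ⊗[R] B) (C := fun i => A ⊗[R] C i)
    (fun i => LinearMap.baseChange A (φ i).toLinearMap) (fun β hβ => ?_) b hb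
  let π : A →ₐ[R] A ⧸ J := Ideal.Quotient.mkₐ R J
  have hzero : Algebra.TensorProduct.map π (AlgHom.id R B) β = 0 := hfib _ fun i => by
    have h1 : ∀ z : A ⊗[R] B, Algebra.TensorProduct.map (AlgHom.id R (A ⧸ J)) (φ i)
        (Algebra.TensorProduct.map π (AlgHom.id R B) z) =
        Algebra.TensorProduct.map π (AlgHom.id R (C i)) (LinearMap.baseChange A (φ i).toLinearMap z) := fun z => by
      induction z using TensorProduct.induction_on with
      | zero => simp
      | tmul a c => simp
      | add x y hx hy => simp only [map_add, hx, hy]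
    rw [h1]
    refine Submodule.smul_induction_on (hβ i) (fun r hr z _ => ?_) (fun x y hx hy => ?_)
    · rw [Algebra.smul_def, map_mul, Algebra.TensorProduct.algebraMap_apply, Algebra.TensorProduct.map_tmul]
      rw [show π (algebraMap A A r) = 0 from Ideal.Quotient.eq_zero_iff_mem.2 hr, TensorProduct.zero_tmul, zero_mul]
    · rw [map_add, hx, hy, add_zero]
  have hex := rTensor_exact B (M := J.restrictScalars R) (N := A) (P := A ⧸ J)
    (f := (J.restrictScalars R).subtype) (g := π.toLinearMap)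
    (fun a => ⟨fun ha => ⟨⟨a, Ideal.Quotient.eq_zero_iff_mem.1 ha⟩, rfl⟩,
      fun ⟨x, hx⟩ => hx ▸ Ideal.Quotient.eq_zero_iff_mem.2 x.2⟩) Ideal.Quotient.mk_surjective
  have hmaps : ∀ z : A ⊗[R] B, π.toLinearMap.rTensor B z = Algebra.TensorProduct.map π (AlgHom.id R B) z := fun z => by
    induction z using TensorProduct.induction_on with
    | zero => simp
    | tmul a c => simp
    | add x y hx hy => simp only [map_add, hx, hy]
  have h2 : π.toLinearMap.rTensor B β = 0 := (hmaps β).trans hzero
  obtain ⟨w, rfl⟩ := (hex β).1 h2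
  clear hβ hzero h2
  induction w using TensorProduct.induction_on with
  | zero => simp
  | tmul j c =>
    have := Submodule.smul_mem_smul (I := J) (N := (⊤ : Submodule A (A ⊗[R] B))) j.2
      (Submodule.mem_top (x := (1 : A) ⊗ₜ[R] c))
    rwa [TensorProduct.smul_tmul', smul_eq_mul, mul_one] at this
  | add x y hx hy => rw [map_add]; exact Submodule.add_mem _ hx hy

/-- Krull's intersection theorem modulo an ideal. -/
theorem mem_of_forall_sup_pow {L : Type u} [CommRing L] [IsLocalRing L] [IsNoetherianRing L] (K : Ideal L)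
    (hK : K ≠ ⊤) (x : L) (h : ∀ k : ℕ, x ∈ K ⊔ IsLocalRing.maximalIdeal L ^ (k + 1)) : x ∈ K := by
  have : Nontrivial (L ⧸ K) := Ideal.Quotient.nontrivial_iff.2 hK
  have : IsLocalRing (L ⧸ K) := IsLocalRing.of_surjective' (Ideal.Quotient.mk K) Ideal.Quotient.mk_surjective
  let f : L →+* L ⧸ K := Ideal.Quotient.mk K
  have : IsNoetherianRing (L ⧸ K) := isNoetherianRing_of_surjective L (L ⧸ K) f Ideal.Quotient.mk_surjective
  have h4 : f x ∈ ⨅ k : ℕ, (IsLocalRing.maximalIdeal L).map f ^ k := by
    refine Ideal.mem_iInf.2 fun k => ?_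
    have h5 := Ideal.mem_map_of_mem f (h k)
    rw [Ideal.map_sup, Ideal.map_quotient_self, bot_sup_eq, Ideal.map_pow] at h5
    exact Ideal.pow_le_pow_right (Nat.le_succ k) h5
  have hne : (IsLocalRing.maximalIdeal L).map f ≠ ⊤ := fun h => by
    have := congrArg (Ideal.comap f) h
    rw [Ideal.comap_map_of_surjective _ Ideal.Quotient.mk_surjective, Ideal.comap_top,
      ← RingHom.ker_eq_comap_bot, Ideal.mk_ker, sup_eq_left.2 (IsLocalRing.le_maximalIdeal hK)] at this
    exact (IsLocalRing.maximalIdeal.isMaximal L).ne_top this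
  have h6 : f x ∈ (⊥ : Ideal (L ⧸ K)) := (Ideal.iInf_pow_eq_bot_of_isLocalRing _ hne).le h4
  exact Ideal.Quotient.eq_zero_iff_mem.1 ((Submodule.mem_bot _).1 h6)

/-- The statement in the local ring at a prime over the ideal, up to powers of the maximal ideal. -/
theorem mem_sup_pow (φ : ∀ i, B →ₐ[R] C i)
    (hfib : ∀ (L : Type u) [Field L] [Algebra R L] (β : L ⊗[R] B),
      (∀ i, Algebra.TensorProduct.map (AlgHom.id R L) (φ i) β = 0) → β = 0)
    (I : Ideal R') (b : R' ⊗[R] B)
    (hb : ∀ i, Algebra.TensorProduct.map (AlgHom.id R R') (φ i) b ∈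
      I.map (Algebra.TensorProduct.includeLeftRingHom : R' →+* R' ⊗[R] C i))
    (q : Ideal (R' ⊗[R] B)) [q.IsPrime]
    (hIq : I.map (Algebra.TensorProduct.includeLeftRingHom : R' →+* R' ⊗[R] B) ≤ q) (k : ℕ) :
    algebraMap _ (Localization.AtPrime q) b ∈
      (I.map (Algebra.TensorProduct.includeLeftRingHom : R' →+* R' ⊗[R] B)).map (algebraMap _ (Localization.AtPrime q)) ⊔
        IsLocalRing.maximalIdeal (Localization.AtPrime q) ^ (k + 1) := by
  classical
  let ι : R' →+* R' ⊗[R] B := Algebra.TensorProduct.includeLeftRingHom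
  let Bq := Localization.AtPrime q
  let g : R' ⊗[R] B →+* Bq := algebraMap _ _
  let p : Ideal R' := q.comap ι
  have hIp : I ≤ p := Ideal.map_le_iff_le_comap.1 hIq
  let Rp := Localization.AtPrime p
  let θ : Rp →+* Bq := Localization.localRingHom p q ι rfl
  let m := IsLocalRing.maximalIdeal Rp
  let K : Ideal Bq := (I.map ι).map g
  let N : Ideal Rp := I.map (algebraMap R' Rp) ⊔ m ^ (k + 1)
  have hNm : N ≤ m := sup_le ((Ideal.map_mono hIp).trans (Localization.AtPrime.map_eq_maximalIdeal).le)
    (Ideal.pow_le_self (Nat.succ_ne_zero k))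
  let A := Rp ⧸ N
  let J : Ideal A := m.map (Ideal.Quotient.mk N)
  have : J.IsMaximal := Ideal.map_eq_top_or_isMaximal_of_surjective _ Ideal.Quotient.mk_surjective
    (IsLocalRing.maximalIdeal.isMaximal Rp) |>.resolve_left (by
      intro h
      have := congrArg (Ideal.comap (Ideal.Quotient.mk N)) h
      rw [Ideal.comap_map_of_surjective _ Ideal.Quotient.mk_surjective, Ideal.comap_top,
        ← RingHom.ker_eq_comap_bot, Ideal.mk_ker, sup_eq_left.2 hNm] at this
      exact (IsLocalRing.maximalIdeal.isMaximal Rp).ne_top this)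
  have hJ : IsNilpotent J := ⟨k + 1, by
    rw [← Ideal.map_pow, Ideal.zero_eq_bot, ← le_bot_iff, Ideal.map_le_iff_le_comap,
      ← RingHom.ker_eq_comap_bot, Ideal.mk_ker]
    exact le_sup_right⟩
  let η : R' →ₐ[R] A := IsScalarTower.toAlgHom R R' A
  have h0 : Algebra.TensorProduct.map η (AlgHom.id R B) b = 0 := by
    let := Ideal.Quotient.field J
    refine eq_zero_thickening φ A J hJ (hfib (A ⧸ J)) _ fun i => ?_
    have h1 : ∀ z : R' ⊗[R] B, Algebra.TensorProduct.map (AlgHom.id R A) (φ i)
        (Algebra.TensorProduct.map η (AlgHom.id R B) z) =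
        Algebra.TensorProduct.map η (AlgHom.id R (C i)) (Algebra.TensorProduct.map (AlgHom.id R R') (φ i) z) := fun z => by
      induction z using TensorProduct.induction_on with
      | zero => simp
      | tmul a c => simp
      | add x y hx hy => simp only [map_add, hx, hy]
    rw [h1]
    refine (Ideal.map_le_iff_le_comap (K := RingHom.ker (Algebra.TensorProduct.map η (AlgHom.id R (C i))).toRingHom)).2
      (fun r hr => ?_) (hb i)
    show Algebra.TensorProduct.map η (AlgHom.id R (C i)) (r ⊗ₜ 1) = 0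
    rw [Algebra.TensorProduct.map_tmul, show η r = 0 from
      Ideal.Quotient.eq_zero_iff_mem.2 (le_sup_left (a := I.map (algebraMap R' Rp)) (Ideal.mem_map_of_mem _ hr)),
      TensorProduct.zero_tmul]
  let T : Ideal Bq := K ⊔ IsLocalRing.maximalIdeal Bq ^ (k + 1)
  have hθ : ∀ r, θ (algebraMap R' Rp r) = g (ι r) := fun r => Localization.localRingHom_to_map p q ι rfl r
  have hNT : N ≤ T.comap θ := by
    refine sup_le ?_ ?_
    · refine Ideal.map_le_iff_le_comap.2 fun r hr => ?_
      show θ (algebraMap R' Rp r) ∈ T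
      rw [hθ]
      exact Submodule.mem_sup_left (Ideal.mem_map_of_mem _ (Ideal.mem_map_of_mem _ hr))
    · intro x hx
      refine Submodule.mem_sup_right ?_
      have hm : m.map θ ≤ IsLocalRing.maximalIdeal Bq := Ideal.map_le_iff_le_comap.2 fun y hy => by
        haveI : IsLocalHom θ := Localization.isLocalHom_localRingHom p q ι rfl
        exact map_nonunit θ y hy
      have := Ideal.mem_map_of_mem θ hx
      rw [Ideal.map_pow] at this
      exact Ideal.pow_right_mono hm _ this
  let e₁ : A →+* Bq ⧸ T := Ideal.quotientMap T θ hNT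
  let e₀ : R' ⊗[R] B →ₐ[R] Bq ⧸ T := IsScalarTower.toAlgHom R (R' ⊗[R] B) (Bq ⧸ T)
  let e₁' : A →ₐ[R] Bq ⧸ T :=
    { e₁ with
      commutes' := fun r => by
        show Ideal.Quotient.mk T (θ (algebraMap R Rp r)) = _
        rw [IsScalarTower.algebraMap_apply R R' Rp, hθ, ← e₀.commutes r]
        rfl }
  let e : A ⊗[R] B →ₐ[R] Bq ⧸ T :=
    Algebra.TensorProduct.lift e₁' (e₀.comp Algebra.TensorProduct.includeRight) fun a c => @mul_comm (Bq ⧸ T) _ _ _
  have he : e.comp (Algebra.TensorProduct.map η (AlgHom.id R B)) = e₀ := by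
    refine Algebra.TensorProduct.ext' fun a c => ?_
    show e (η a ⊗ₜ c) = e₀ (a ⊗ₜ c)
    rw [Algebra.TensorProduct.lift_tmul, show (a ⊗ₜ[R] c) = (a ⊗ₜ[R] (1 : B)) * ((1 : R') ⊗ₜ[R] c) by simp, map_mul]
    congr 1
    show Ideal.Quotient.mk T (θ (algebraMap R' Rp a)) = Ideal.Quotient.mk T (g (a ⊗ₜ 1))
    rw [hθ]
    rfl
  have h3 : e₀ b = 0 := by rw [← he, AlgHom.comp_apply, h0, map_zero]
  exact Ideal.Quotient.eq_zero_iff_mem.1 h3

/-- Joint injectivity on all fibres gives joint injectivity modulo any ideal. -/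
theorem mem_map_of_forall [IsNoetherianRing R'] [IsNoetherianRing (R' ⊗[R] B)] (φ : ∀ i, B →ₐ[R] C i)
    (hfib : ∀ (L : Type u) [Field L] [Algebra R L] (β : L ⊗[R] B),
      (∀ i, Algebra.TensorProduct.map (AlgHom.id R L) (φ i) β = 0) → β = 0)
    (I : Ideal R') (b : R' ⊗[R] B)
    (hb : ∀ i, Algebra.TensorProduct.map (AlgHom.id R R') (φ i) b ∈
      I.map (Algebra.TensorProduct.includeLeftRingHom : R' →+* R' ⊗[R] C i)) :
    b ∈ I.map (Algebra.TensorProduct.includeLeftRingHom : R' →+* R' ⊗[R] B) := by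
  refine Ideal.mem_of_localization_maximal fun q hq => ?_
  by_cases hIq : I.map (Algebra.TensorProduct.includeLeftRingHom : R' →+* R' ⊗[R] B) ≤ q
  · refine mem_of_forall_sup_pow _ (fun h => ?_) _ (mem_sup_pow φ hfib I b hb q hIq)
    exact (IsLocalRing.maximalIdeal.isMaximal (Localization.AtPrime q)).ne_top
      (top_le_iff.1 (h ▸ (Ideal.map_mono hIq).trans (Localization.AtPrime.map_eq_maximalIdeal).le))
  · obtain ⟨x, hx, hxq⟩ := SetLike.not_le_iff_exists.1 hIq
    rw [Ideal.eq_top_of_isUnit_mem _ (Ideal.mem_map_of_mem _ hx)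
      (IsLocalization.map_units (Localization.AtPrime q) (⟨x, hxq⟩ : q.primeCompl))]
    exact Submodule.mem_top

end Groth.Agent.SchD38
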