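import Groth.Agent.SchD38.Dense
import Groth.Prelude.Def_MoreMor
import Mathlib.AlgebraicGeometry.ResidueField
import Mathlib.AlgebraicGeometry.Morphisms.Flat

/-!
Schematic density on fibres, expressed with algebras over the sections of affine opens.
-/

set_option autoImplicit false
set_option backward.isDefEq.respectTransparency.types false
universe u

open CategoryTheory AlgebraicGeometry
open CategoryTheory.Limits
open scoped TensorProduct

noncomputable section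

namespace Groth.Agent.SchD38

theorem top_le_preimage_fromSpec {X : Scheme.{u}} {V : X.Opens} (hV : IsAffineOpen V) {A : CommRingCat.{u}}
    (q : Γ(X, V) ⟶ A) : (⊤ : (Spec A).Opens) ≤ (Spec.map q ≫ hV.fromSpec) ⁻¹ᵁ V := fun z _ => by
  show hV.fromSpec (Spec.map q z) ∈ V
  exact hV.range_fromSpec.subset ⟨_, rfl⟩

theorem appLE_specMap_fromSpec {X : Scheme.{u}} {V : X.Opens} (hV : IsAffineOpen V) {A : CommRingCat.{u}}
    (q : Γ(X, V) ⟶ A) (h : (⊤ : (Spec A).Opens) ≤ (Spec.map q ≫ hV.fromSpec) ⁻¹ᵁ V) :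
    (Spec.map q ≫ hV.fromSpec).appLE V ⊤ h = q ≫ (Scheme.ΓSpecIso A).inv := by
  have h2 : (⊤ : (Spec Γ(X, V)).Opens) ≤ hV.fromSpec ⁻¹ᵁ V := hV.fromSpec_preimage_self.ge
  rw [show (Spec.map q ≫ hV.fromSpec).appLE V ⊤ h =
    hV.fromSpec.appLE V ⊤ h2 ≫ (Spec.map q).appLE ⊤ ⊤ le_rfl from (Scheme.Hom.appLE_comp_appLE _ _ _ _ _ _ _).symm]
  rw [show hV.fromSpec.appLE V ⊤ h2 = hV.fromSpec.app V ≫ (Spec Γ(X, V)).presheaf.map (homOfLE h2).op from rfl,
    IsAffineOpen.fromSpec_app_self, Category.assoc, Category.assoc, Scheme.Hom.map_appLE, Scheme.Hom.map_appLE]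
  refine Eq.trans ?_ (Scheme.ΓSpecIso_inv_naturality q).symm
  congr 1

/-- A morphism from an affine scheme into an affine open, as a ring map. -/
theorem exists_specMap_fromSpec {X : Scheme.{u}} {V : X.Opens} (hV : IsAffineOpen V) {A : CommRingCat.{u}}
    (g : Spec A ⟶ X) (hg : Set.range g ⊆ V) : ∃ q : Γ(X, V) ⟶ A, Spec.map q ≫ hV.fromSpec = g := by
  have hg' : Set.range g ⊆ Set.range hV.fromSpec := by rw [hV.range_fromSpec]; exact hg
  exact ⟨Spec.preimage (IsOpenImmersion.lift hV.fromSpec g hg'), by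
    rw [Spec.map_preimage, IsOpenImmersion.lift_fac]⟩

variable {S H : Scheme.{u}} (f : H ⟶ S) {U : S.Opens} (hU : IsAffineOpen U) {V : H.Opens}
  (hVU : V ≤ f ⁻¹ᵁ U) {K : CommRingCat.{u}} (ρ : Γ(S, U) ⟶ K)

/-- The open of the base change over an open. -/
abbrev bcOpen (V : H.Opens) : (pullback f (Spec.map ρ ≫ hU.fromSpec)).Opens :=
  pullback.fst f (Spec.map ρ ≫ hU.fromSpec) ⁻¹ᵁ V

/-- The comparison of the tensor product with the sections of the base change. -/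
theorem exists_theta [Algebra Γ(S, U) Γ(H, V)] [Algebra Γ(S, U) K]
    (hB : algebraMap Γ(S, U) Γ(H, V) = (f.appLE U V hVU).hom) (hK : algebraMap Γ(S, U) K = ρ.hom) :
    ∃ θ : (K ⊗[Γ(S, U)] Γ(H, V)) →+* Γ(pullback f (Spec.map ρ ≫ hU.fromSpec), bcOpen f hU ρ V),
      (∀ b, θ (1 ⊗ₜ b) = (pullback.fst f (Spec.map ρ ≫ hU.fromSpec)).app V b) ∧
      (∀ a, θ (a ⊗ₜ 1) = (pullback.snd f (Spec.map ρ ≫ hU.fromSpec)).appLE ⊤ (bcOpen f hU ρ V) le_top
        ((Scheme.ΓSpecIso K).inv a)) := by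
  let g := Spec.map ρ ≫ hU.fromSpec
  let P := pullback f g
  let V0 := bcOpen f hU ρ V
  let a₁ : K ⟶ Γ(P, V0) := (Scheme.ΓSpecIso K).inv ≫ (pullback.snd f g).appLE ⊤ V0 le_top
  let a₂ : Γ(H, V) ⟶ Γ(P, V0) := (pullback.fst f g).app V
  have hcomm : ρ ≫ a₁ = f.appLE U V hVU ≫ a₂ := by
    have e2 : f.appLE U V hVU ≫ a₂ = (pullback.fst f g ≫ f).appLE U V0
        ((pullback.fst f g).preimage_mono hVU) := by
      simp only [a₂, ← Scheme.Hom.appLE_eq_app, Scheme.Hom.appLE_comp_appLE]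
      rfl
    have e1 : ρ ≫ a₁ = (pullback.snd f g ≫ g).appLE U V0 (by
        rw [← pullback.condition]; exact (pullback.fst f g).preimage_mono hVU) := by
      show ρ ≫ (Scheme.ΓSpecIso K).inv ≫ _ = _
      rw [← Category.assoc, ← appLE_specMap_fromSpec hU ρ (top_le_preimage_fromSpec hU ρ), Scheme.Hom.appLE_comp_appLE]
    rw [e1, e2]
    simp only [pullback.condition, g]
  let _ : Algebra Γ(S, U) Γ(P, V0) := (a₁.hom.comp ρ.hom).toAlgebra
  let A₁ : K →ₐ[Γ(S, U)] Γ(P, V0) :=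
    { a₁.hom with
      commutes' := fun r => by
        show a₁ (algebraMap Γ(S, U) K r) = a₁ (ρ r)
        rw [hK] }
  let A₂ : Γ(H, V) →ₐ[Γ(S, U)] Γ(P, V0) :=
    { a₂.hom with
      commutes' := fun r => by
        show a₂ (algebraMap Γ(S, U) Γ(H, V) r) = a₁ (ρ r)
        rw [hB]
        exact (congrArg (fun k => k r) hcomm).symm }
  refine ⟨(Algebra.TensorProduct.lift A₁ A₂ fun x y => @mul_comm Γ(P, V0) _ _ _).toRingHom, fun b => ?_, fun a => ?_⟩
  · show Algebra.TensorProduct.lift A₁ A₂ _ (1 ⊗ₜ b) = _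
    rw [Algebra.TensorProduct.lift_tmul, map_one, one_mul]
    rfl
  · show Algebra.TensorProduct.lift A₁ A₂ _ (a ⊗ₜ 1) = _
    rw [Algebra.TensorProduct.lift_tmul, map_one, mul_one]
    rfl

/-- The comparison is injective over an affine open. -/
theorem theta_injective (hV : IsAffineOpen V) [Algebra Γ(S, U) Γ(H, V)] [Algebra Γ(S, U) K]
    (hB : algebraMap Γ(S, U) Γ(H, V) = (f.appLE U V hVU).hom) (hK : algebraMap Γ(S, U) K = ρ.hom)
    (θ : (K ⊗[Γ(S, U)] Γ(H, V)) →+* Γ(pullback f (Spec.map ρ ≫ hU.fromSpec), bcOpen f hU ρ V))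
    (hθ₂ : ∀ b, θ (1 ⊗ₜ b) = (pullback.fst f (Spec.map ρ ≫ hU.fromSpec)).app V b)
    (hθ₁ : ∀ a, θ (a ⊗ₜ 1) = (pullback.snd f (Spec.map ρ ≫ hU.fromSpec)).appLE ⊤ (bcOpen f hU ρ V) le_top
        ((Scheme.ΓSpecIso K).inv a)) : Function.Injective θ := by
  let g := Spec.map ρ ≫ hU.fromSpec
  let Q : CommRingCat.{u} := CommRingCat.of (K ⊗[Γ(S, U)] Γ(H, V))
  let i₁ : K ⟶ Q := CommRingCat.ofHom (Algebra.TensorProduct.includeLeftRingHom)
  let i₂ : Γ(H, V) ⟶ Q := CommRingCat.ofHom (Algebra.TensorProduct.includeRight (R := Γ(S, U)) (A := K)).toRingHom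
  have hi : ρ ≫ i₁ = f.appLE U V hVU ≫ i₂ := by
    refine CommRingCat.hom_ext (RingHom.ext fun r => ?_)
    show (ρ r) ⊗ₜ[Γ(S, U)] (1 : Γ(H, V)) = (1 : K) ⊗ₜ[Γ(S, U)] (f.appLE U V hVU r)
    have h1 : ρ r = algebraMap Γ(S, U) K r := (congrArg (fun k => k r) hK).symm
    have h2 : f.appLE U V hVU r = algebraMap Γ(S, U) Γ(H, V) r := (congrArg (fun k => k r) hB).symm
    rw [h1, h2, Algebra.algebraMap_eq_smul_one, Algebra.algebraMap_eq_smul_one, TensorProduct.smul_tmul]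
  have hw : (Spec.map i₂ ≫ hV.fromSpec) ≫ f = Spec.map i₁ ≫ g := by
    rw [Category.assoc, ← IsAffineOpen.SpecMap_appLE_fromSpec f hU hV hVU]
    show _ = Spec.map i₁ ≫ Spec.map ρ ≫ hU.fromSpec
    rw [← Spec.map_comp_assoc, ← Spec.map_comp_assoc, hi]
  let u := pullback.lift (f := f) (g := g) (Spec.map i₂ ≫ hV.fromSpec) (Spec.map i₁) hw
  have hu1 : u ≫ pullback.fst f g = Spec.map i₂ ≫ hV.fromSpec := pullback.lift_fst _ _ _
  have hu2 : u ≫ pullback.snd f g = Spec.map i₁ := pullback.lift_snd _ _ _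
  have htop : (⊤ : (Spec Q).Opens) ≤ u ⁻¹ᵁ bcOpen f hU ρ V := by
    show _ ≤ (u ≫ pullback.fst f g) ⁻¹ᵁ V
    rw [hu1]
    exact top_le_preimage_fromSpec hV i₂
  have key : ∀ z, u.appLE (bcOpen f hU ρ V) ⊤ htop (θ z) = (Scheme.ΓSpecIso Q).inv z := by
    let ψ : (K ⊗[Γ(S, U)] Γ(H, V)) →+* Γ(Spec Q, ⊤) := (u.appLE (bcOpen f hU ρ V) ⊤ htop).hom.comp θ
    intro z
    show ψ z = _
    have e2 : ∀ b, ψ (1 ⊗ₜ b) = (Scheme.ΓSpecIso Q).inv (i₂ b) := fun b => by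
      show u.appLE _ ⊤ htop (θ (1 ⊗ₜ b)) = _
      rw [hθ₂]
      have : (pullback.fst f g).app V ≫ u.appLE (bcOpen f hU ρ V) ⊤ htop = i₂ ≫ (Scheme.ΓSpecIso Q).inv := by
        rw [← appLE_specMap_fromSpec hV i₂ (top_le_preimage_fromSpec hV i₂)]
        simp only [← hu1, ← Scheme.Hom.appLE_eq_app, Scheme.Hom.appLE_comp_appLE, g]
      exact congrArg (fun k => k b) this
    have e1 : ∀ a, ψ (a ⊗ₜ 1) = (Scheme.ΓSpecIso Q).inv (i₁ a) := fun a => by
      show u.appLE _ ⊤ htop (θ (a ⊗ₜ 1)) = _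
      rw [hθ₁]
      have : (Scheme.ΓSpecIso K).inv ≫ (pullback.snd f g).appLE ⊤ (bcOpen f hU ρ V) le_top ≫
          u.appLE (bcOpen f hU ρ V) ⊤ htop = i₁ ≫ (Scheme.ΓSpecIso Q).inv := by
        rw [Scheme.ΓSpecIso_inv_naturality, Scheme.Hom.appLE_comp_appLE]
        congr 1
        simp only [hu2]
        exact Scheme.Hom.appLE_eq_app (Spec.map i₁)
      exact congrArg (fun k => k a) this
    induction z using TensorProduct.induction_on with
    | zero => exact (map_zero ψ).trans (map_zero (Scheme.ΓSpecIso Q).inv.hom).symm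
    | tmul a b =>
      have hab : a ⊗ₜ[Γ(S, U)] b = (a ⊗ₜ[Γ(S, U)] (1 : Γ(H, V))) * ((1 : K) ⊗ₜ[Γ(S, U)] b) := by simp
      have h3 : ψ (a ⊗ₜ b) = (Scheme.ΓSpecIso Q).inv (i₁ a) * (Scheme.ΓSpecIso Q).inv (i₂ b) := by
        rw [hab, map_mul, e1, e2]
      refine h3.trans ((map_mul (Scheme.ΓSpecIso Q).inv.hom _ _).symm.trans ?_)
      exact congrArg (Scheme.ΓSpecIso Q).inv.hom hab.symm
    | add x y hx hy =>
      rw [map_add, hx, hy]
      exact (map_add (Scheme.ΓSpecIso Q).inv.hom x y).symm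
  intro x y hxy
  exact (ConcreteCategory.bijective_of_isIso (Scheme.ΓSpecIso Q).inv).injective
    ((key x).symm.trans ((congrArg (u.appLE (bcOpen f hU ρ V) ⊤ htop) hxy).trans (key y)))

end Groth.Agent.SchD38
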