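import Groth.Agent.SchD38.FibreAlg
import Groth.Agent.SchD38.Sections
import Mathlib.LinearAlgebra.TensorProduct.Basis
import Mathlib.LinearAlgebra.TensorProduct.Tower

/-!
Schematic density on all fibres gives joint injectivity after every base change to a field.
-/

set_option autoImplicit false
set_option backward.isDefEq.respectTransparency.types false
universe u

open CategoryTheory AlgebraicGeometry
open CategoryTheory.Limits
open scoped TensorProduct

noncomputable section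

namespace Groth.Agent.SchD38

variable {S H : Scheme.{u}} (f : H ⟶ S) {σ₀ : Type u} {Z : σ₀ → Scheme.{u}} (ι : ∀ n, Z n ⟶ H)

/-- The map of base changes. -/
abbrev bcMap (n : σ₀) {P : Scheme.{u}} (g : P ⟶ S) : pullback (ι n ≫ f) g ⟶ pullback f g :=
  pullback.lift (pullback.fst (ι n ≫ f) g ≫ ι n) (pullback.snd (ι n ≫ f) g)
    (by rw [Category.assoc]; exact pullback.condition)

/-- The affine opens of the members over an affine open. -/
abbrev Piece (V : H.Opens) : Type u := Σ n, {W : (Z n).Opens // IsAffineOpen W ∧ W ≤ ι n ⁻¹ᵁ V}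

/-- The pieces vanish, hence the section vanishes. -/
theorem eq_zero_of_dense {U : S.Opens} (hU : IsAffineOpen U) {V : H.Opens} (hV : IsAffineOpen V) (hVU : V ≤ f ⁻¹ᵁ U)
    {K : CommRingCat.{u}} (ρ : Γ(S, U) ⟶ K)
    (hd : ∀ (V' : (pullback f (Spec.map ρ ≫ hU.fromSpec)).Opens) (t : Γ(pullback f (Spec.map ρ ≫ hU.fromSpec), V')),
      (∀ n, (bcMap f ι n (Spec.map ρ ≫ hU.fromSpec)).app V' t = 0) → t = 0)
    [Algebra Γ(S, U) Γ(H, V)] [Algebra Γ(S, U) K] [∀ o : Piece ι V, Algebra Γ(S, U) Γ(Z o.1, o.2.1)]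
    (hB : algebraMap Γ(S, U) Γ(H, V) = (f.appLE U V hVU).hom) (hK : algebraMap Γ(S, U) K = ρ.hom)
    (hC : ∀ o : Piece ι V, algebraMap Γ(S, U) Γ(Z o.1, o.2.1) =
      ((ι o.1 ≫ f).appLE U o.2.1 (o.2.2.2.trans ((ι o.1).preimage_mono hVU))).hom)
    (φ : ∀ o : Piece ι V, Γ(H, V) →ₐ[Γ(S, U)] Γ(Z o.1, o.2.1))
    (hφ : ∀ o b, φ o b = (ι o.1).appLE V o.2.1 o.2.2.2 b)
    (β : K ⊗[Γ(S, U)] Γ(H, V)) (hβ : ∀ o, Algebra.TensorProduct.map (AlgHom.id Γ(S, U) K) (φ o) β = 0) :
    β = 0 := by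
  let g := Spec.map ρ ≫ hU.fromSpec
  obtain ⟨θ, hθ₂, hθ₁⟩ := exists_theta f hU hVU ρ hB hK
  refine (theta_injective f hU hVU ρ hV hB hK θ hθ₂ hθ₁) ?_
  rw [map_zero]
  refine hd _ _ fun n => ?_
  let F := bcMap f ι n g
  let f₁ := pullback.fst (ι n ≫ f) g
  have hF1 : F ≫ pullback.fst f g = f₁ ≫ ι n := pullback.lift_fst _ _ _
  have hF2 : F ≫ pullback.snd f g = pullback.snd (ι n ≫ f) g := pullback.lift_snd _ _ _
  refine TopCat.Sheaf.eq_of_locally_eq' (pullback (ι n ≫ f) g).sheaf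
    (fun o : {W : (Z n).Opens // IsAffineOpen W ∧ W ≤ ι n ⁻¹ᵁ V} => (F ⁻¹ᵁ bcOpen f hU ρ V) ⊓ f₁ ⁻¹ᵁ o.1)
    (F ⁻¹ᵁ bcOpen f hU ρ V) (fun _ => homOfLE inf_le_left) ?_ _ _ ?_
  · intro z hz
    have hz' : ι n (f₁ z) ∈ V := by
      rw [← Scheme.Hom.comp_apply, ← hF1]
      exact hz
    obtain ⟨W, hW, hzW, hWV⟩ := exists_isAffineOpen_mem_and_subset (U := ι n ⁻¹ᵁ V) (x := f₁ z) hz'
    exact TopologicalSpace.Opens.mem_iSup.2 ⟨⟨W, hW, hWV⟩, hz, hzW⟩
  rintro ⟨W, hW, hWV⟩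
  refine Eq.trans ?_ (map_zero _).symm
  let o : Piece ι V := ⟨n, W, hW, hWV⟩
  let : Algebra Γ(S, U) Γ(Z n, W) := inferInstanceAs (Algebra Γ(S, U) Γ(Z o.1, o.2.1))
  obtain ⟨θW, hW₂, hW₁⟩ := exists_theta (ι n ≫ f) hU (hWV.trans ((ι n).preimage_mono hVU)) ρ (hC o) hK
  let D := (F ⁻¹ᵁ bcOpen f hU ρ V) ⊓ f₁ ⁻¹ᵁ W
  let l : (K ⊗[Γ(S, U)] Γ(H, V)) →+* Γ(pullback (ι n ≫ f) g, D) :=
    (F.appLE (bcOpen f hU ρ V) D inf_le_left).hom.comp θ
  let r : (K ⊗[Γ(S, U)] Γ(H, V)) →+* Γ(pullback (ι n ≫ f) g, D) :=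
    (((pullback (ι n ≫ f) g).presheaf.map (homOfLE (inf_le_right : D ≤ f₁ ⁻¹ᵁ W)).op).hom.comp θW).comp
      (Algebra.TensorProduct.map (AlgHom.id Γ(S, U) K) (φ o)).toRingHom
  have hlr : ∀ z, l z = r z := fun z => by
    have h2 : ∀ b, l (1 ⊗ₜ b) = r (1 ⊗ₜ b) := fun b => by
      show F.appLE _ D _ (θ (1 ⊗ₜ b)) = _
      rw [hθ₂]
      show _ = (pullback (ι n ≫ f) g).presheaf.map _ (θW (Algebra.TensorProduct.map (AlgHom.id Γ(S, U) K) (φ o) (1 ⊗ₜ b)))
      rw [Algebra.TensorProduct.map_tmul, map_one, hW₂, hφ]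
      have : (pullback.fst f g).app V ≫ F.appLE (bcOpen f hU ρ V) D inf_le_left =
          (ι n).appLE V W hWV ≫ f₁.app W ≫ (pullback (ι n ≫ f) g).presheaf.map (homOfLE inf_le_right).op := by
        simp only [← Scheme.Hom.appLE_eq_app, Scheme.Hom.appLE_map, Scheme.Hom.appLE_comp_appLE, hF1, g]
        rfl
      exact congrArg (fun k => k b) this
    have h1 : ∀ a, l (a ⊗ₜ 1) = r (a ⊗ₜ 1) := fun a => by
      show F.appLE _ D _ (θ (a ⊗ₜ 1)) = _
      rw [hθ₁]
      show _ = (pullback (ι n ≫ f) g).presheaf.map _ (θW (Algebra.TensorProduct.map (AlgHom.id Γ(S, U) K) (φ o) (a ⊗ₜ 1)))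
      rw [Algebra.TensorProduct.map_tmul, map_one, hW₁]
      have : (pullback.snd f g).appLE ⊤ (bcOpen f hU ρ V) le_top ≫ F.appLE (bcOpen f hU ρ V) D inf_le_left =
          (pullback.snd (ι n ≫ f) g).appLE ⊤ (f₁ ⁻¹ᵁ W) le_top ≫ (pullback (ι n ≫ f) g).presheaf.map (homOfLE inf_le_right).op := by
        simp only [Scheme.Hom.appLE_map, Scheme.Hom.appLE_comp_appLE, hF2]
        rfl
      exact congrArg (fun k => k ((Scheme.ΓSpecIso K).inv a)) this
    induction z using TensorProduct.induction_on with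
    | zero => exact (map_zero l).trans (map_zero r).symm
    | tmul a b =>
      have hab : a ⊗ₜ[Γ(S, U)] b = (a ⊗ₜ[Γ(S, U)] (1 : Γ(H, V))) * ((1 : K) ⊗ₜ[Γ(S, U)] b) := by simp
      rw [hab, map_mul, map_mul, h1, h2]
    | add x y hx hy => rw [map_add, map_add, hx, hy]
  refine (hlr β).trans ?_
  show (pullback (ι n ≫ f) g).presheaf.map _ (θW (Algebra.TensorProduct.map (AlgHom.id Γ(S, U) K) (φ o) β)) = 0
  rw [hβ o, map_zero]
  exact map_zero _

/-- Joint injectivity passes to field extensions. -/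
theorem eq_zero_of_field_ext {R B : Type u} [CommRing R] [CommRing B] [Algebra R B]
    {σ : Type u} {C : σ → Type u} [∀ i, CommRing (C i)] [∀ i, Algebra R (C i)] (φ : ∀ i, B →ₐ[R] C i)
    (K L : Type u) [Field K] [Field L] [Algebra R K] [Algebra R L] [Algebra K L] [IsScalarTower R K L]
    (hK : ∀ β : K ⊗[R] B, (∀ i, Algebra.TensorProduct.map (AlgHom.id R K) (φ i) β = 0) → β = 0)
    (β : L ⊗[R] B) (hβ : ∀ i, Algebra.TensorProduct.map (AlgHom.id R L) (φ i) β = 0) : β = 0 := by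
  let e := TensorProduct.AlgebraTensorModule.cancelBaseChange R K L L B
  obtain ⟨z, rfl⟩ := e.surjective β
  suffices z = 0 by rw [this, map_zero]
  let bas := Module.Free.chooseBasis K L
  apply (TensorProduct.equivFinsuppOfBasisLeft bas (M := L) (N := K ⊗[R] B)).injective
  rw [map_zero]
  ext l
  refine hK _ fun i => ?_
  let φK : K ⊗[R] B →ₗ[K] K ⊗[R] C i := LinearMap.baseChange K (φ i).toLinearMap
  have hφK : ∀ w, φK w = Algebra.TensorProduct.map (AlgHom.id R K) (φ i) w := fun w => by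
    induction w using TensorProduct.induction_on with
    | zero => simp
    | tmul a c => simp [φK]
    | add x y hx hy => simp only [map_add, hx, hy]
  have h1 : ∀ w : L ⊗[K] (K ⊗[R] B), TensorProduct.AlgebraTensorModule.cancelBaseChange R K L L (C i)
      (φK.lTensor L w) = Algebra.TensorProduct.map (AlgHom.id R L) (φ i) (e w) := fun w => by
    induction w using TensorProduct.induction_on with
    | zero => simp
    | tmul a c =>
      induction c using TensorProduct.induction_on with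
      | zero => simp
      | tmul k b => simp [φK, e]
      | add x y hx hy => simp only [TensorProduct.tmul_add, map_add, hx, hy]
    | add x y hx hy => simp only [map_add, hx, hy]
  have h2 : φK.lTensor L z = 0 :=
    (TensorProduct.AlgebraTensorModule.cancelBaseChange R K L L (C i)).injective (by rw [h1, hβ, map_zero])
  have h3 : ∀ w : L ⊗[K] (K ⊗[R] B), φK (TensorProduct.equivFinsuppOfBasisLeft bas w l) =
      TensorProduct.equivFinsuppOfBasisLeft bas (φK.lTensor L w) l := fun w => by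
    induction w using TensorProduct.induction_on with
    | zero => simp
    | tmul a c => simp
    | add x y hx hy => simp only [map_add, Finsupp.add_apply, hx, hy]
  rw [← hφK, h3, h2, map_zero, Finsupp.zero_apply]

/-- Density on every fibre gives injectivity over every field. -/
theorem injective_of_fibre_dense {U : S.Opens} (hU : IsAffineOpen U) {V : H.Opens} (hV : IsAffineOpen V) (hVU : V ≤ f ⁻¹ᵁ U)
    (hd : ∀ (s : S) (V' : (f.fiber s).Opens) (t : Γ(f.fiber s, V')),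
      (∀ n, (MoreMor.fiberMap (ι n) f s).app V' t = 0) → t = 0)
    [Algebra Γ(S, U) Γ(H, V)] [∀ o : Piece ι V, Algebra Γ(S, U) Γ(Z o.1, o.2.1)]
    (hB : algebraMap Γ(S, U) Γ(H, V) = (f.appLE U V hVU).hom)
    (hC : ∀ o : Piece ι V, algebraMap Γ(S, U) Γ(Z o.1, o.2.1) =
      ((ι o.1 ≫ f).appLE U o.2.1 (o.2.2.2.trans ((ι o.1).preimage_mono hVU))).hom)
    (φ : ∀ o : Piece ι V, Γ(H, V) →ₐ[Γ(S, U)] Γ(Z o.1, o.2.1))
    (hφ : ∀ o b, φ o b = (ι o.1).appLE V o.2.1 o.2.2.2 b)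
    (L : Type u) [Field L] [Algebra Γ(S, U) L]
    (β : L ⊗[Γ(S, U)] Γ(H, V)) (hβ : ∀ o, Algebra.TensorProduct.map (AlgHom.id Γ(S, U) L) (φ o) β = 0) : β = 0 := by
  let gL : Spec (CommRingCat.of L) ⟶ S := Spec.map (CommRingCat.ofHom (algebraMap Γ(S, U) L)) ≫ hU.fromSpec
  obtain ⟨⟨s, h⟩, hh⟩ := (Scheme.SpecToEquivOfField L S).symm.surjective gL
  change Spec.map h ≫ S.fromSpecResidueField s = gL at hh
  have hsU : s ∈ U := by
    have := congrArg (fun k : Spec (CommRingCat.of L) ⟶ S => k (IsLocalRing.closedPoint L)) hh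
    simp only [Scheme.Hom.comp_apply, Scheme.fromSpecResidueField_apply] at this
    rw [this]
    exact hU.range_fromSpec.subset ⟨_, rfl⟩
  obtain ⟨ρ, hρ⟩ := exists_specMap_fromSpec hU (S.fromSpecResidueField s) (by
    rintro _ ⟨z, rfl⟩
    rw [Scheme.fromSpecResidueField_apply]
    exact hsU)
  have hρh : ρ ≫ h = CommRingCat.ofHom (algebraMap Γ(S, U) L) := by
    refine Spec.map_injective ?_
    rw [← cancel_mono hU.fromSpec, Spec.map_comp, Category.assoc, hρ, hh]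
  let : Algebra Γ(S, U) (S.residueField s) := ρ.hom.toAlgebra
  let : Algebra (S.residueField s) L := h.hom.toAlgebra
  have : IsScalarTower Γ(S, U) (S.residueField s) L := IsScalarTower.of_algebraMap_eq fun r =>
    (congrArg (fun k => k r) hρh).symm
  refine eq_zero_of_field_ext φ (S.residueField s) L (fun β' hβ' => ?_) β hβ
  refine eq_zero_of_dense f ι hU hV hVU ρ ?_ hB rfl hC φ hφ β' hβ'
  have key : ∀ g : Spec (S.residueField s) ⟶ S, g = S.fromSpecResidueField s →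
      ∀ (V' : (pullback f g).Opens) (t : Γ(pullback f g, V')), (∀ n, (bcMap f ι n g).app V' t = 0) → t = 0 := by
    rintro g rfl V' t ht
    exact hd s V' t fun n => ht n
  exact key _ hρ

end Groth.Agent.SchD38
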