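import Mathlib.RingTheory.Flat.Basic
import Mathlib.RingTheory.Ideal.Quotient.Operations
import Mathlib.LinearAlgebra.FreeModule.Basic
import Mathlib.RingTheory.Nilpotent.Basic
import Mathlib.LinearAlgebra.TensorProduct.Quotient

/-!
A family of maps to flat modules which is jointly injective modulo a nilpotent ideal with free graded
quotients is jointly injective.
-/

set_option autoImplicit false
universe u

open scoped TensorProduct

namespace Groth.Agent.SchD38

variable {A : Type u} [CommRing A] (J : Ideal A)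

variable {M : Type u} [AddCommGroup M] [Module A M]

theorem mem_smul_step (k : ℕ) [Module.Free (A ⧸ J) ((A ⧸ J) ⊗[A] ↥(J ^ k))] {σ : Type u} {C : σ → Type u}
    [∀ i, AddCommGroup (C i)] [∀ i, Module A (C i)] [∀ i, Module.Flat A (C i)] (φ : ∀ i, M →ₗ[A] C i)
    (h0 : ∀ b : M, (∀ i, φ i b ∈ J • (⊤ : Submodule A (C i))) → b ∈ J • (⊤ : Submodule A M))
    (b : M) (hb : b ∈ J ^ k • (⊤ : Submodule A M)) (hφ : ∀ i, φ i b = 0) :
    b ∈ J ^ (k + 1) • (⊤ : Submodule A M) := by
  classical
  let N := (A ⧸ J) ⊗[A] ↥(J ^ k)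
  let bas := Module.Free.chooseBasis (A ⧸ J) N
  let mk : ↥(J ^ k) →ₗ[A] N := TensorProduct.mk A (A ⧸ J) ↥(J ^ k) 1
  have hmk : Function.Surjective mk := fun z => by
    induction z using TensorProduct.induction_on with
    | zero => exact ⟨0, map_zero _⟩
    | tmul r x =>
      obtain ⟨a, rfl⟩ := Ideal.Quotient.mk_surjective r
      refine ⟨a • x, ?_⟩
      show (1 : A ⧸ J) ⊗ₜ[A] (a • x) = _
      rw [← TensorProduct.smul_tmul]
      congr 1
      exact (Algebra.smul_def a (1 : A ⧸ J)).trans (mul_one _)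
    | add x y hx hy =>
      obtain ⟨a, rfl⟩ := hx
      obtain ⟨b, rfl⟩ := hy
      exact ⟨a + b, map_add _ _ _⟩
  choose e he using fun l => hmk (bas l)
  -- elements of `J ^ k` killed by `mk` lie one step deeper
  have hker : ∀ x : ↥(J ^ k), mk x = 0 → (x : A) ∈ J ^ (k + 1) := fun x hx => by
    let q : (A ⧸ J) ⊗[A] ↥(J ^ k) →ₗ[A] A ⧸ J ^ (k + 1) := TensorProduct.lift
      (Submodule.liftQ J
        (LinearMap.mk₂ A (fun (a : A) (y : ↥(J ^ k)) => Ideal.Quotient.mk (J ^ (k + 1)) (a * (y : A)))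
          (fun _ _ _ => by simp [add_mul]) (fun _ _ _ => by simp [mul_assoc, Algebra.smul_def])
          (fun _ _ _ => by simp [mul_add]) (fun _ _ _ => by simp [mul_left_comm, Algebra.smul_def]))
        fun a ha => by
          refine LinearMap.ext fun y => ?_
          show Ideal.Quotient.mk (J ^ (k + 1)) (a * (y : A)) = 0
          rw [Ideal.Quotient.eq_zero_iff_mem, pow_succ']
          exact Ideal.mul_mem_mul ha y.2)
    have h1 : q (mk x) = Ideal.Quotient.mk (J ^ (k + 1)) (x : A) := by
      show Ideal.Quotient.mk (J ^ (k + 1)) (1 * (x : A)) = _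
      rw [one_mul]
    rw [hx, map_zero] at h1
    exact Ideal.Quotient.eq_zero_iff_mem.1 h1.symm
  -- every element of `J ^ k • M` is a combination of the chosen generators modulo the next step
  have hgen : ∀ b ∈ J ^ k • (⊤ : Submodule A M), ∃ d : Module.Free.ChooseBasisIndex (A ⧸ J) N →₀ M,
      b - d.sum (fun l m => (e l : A) • m) ∈ J ^ (k + 1) • (⊤ : Submodule A M) := by
    intro b hb
    refine Submodule.smul_induction_on hb (fun r hr m hm => ?_) (fun x y hx hy => ?_)
    · choose a ha using fun t : A ⧸ J => Ideal.Quotient.mk_surjective t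
      let c := bas.repr (mk ⟨r, hr⟩)
      refine ⟨c.mapRange (fun t => if t = 0 then 0 else a t • m) (by simp), ?_⟩
      rw [Finsupp.sum_mapRange_index (fun _ => smul_zero _)]
      have hx : mk (⟨r, hr⟩ - c.sum fun l t => (if t = 0 then 0 else a t) • e l) = 0 := by
        rw [map_sub, Finsupp.sum, map_sum, sub_eq_zero]
        conv_lhs => rw [← bas.linearCombination_repr (mk ⟨r, hr⟩)]
        rw [Finsupp.linearCombination_apply, Finsupp.sum]
        refine Finset.sum_congr rfl fun l hl => ?_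
        rw [if_neg (Finsupp.mem_support_iff.1 hl), map_smul, he]
        conv_lhs => rw [← ha (c l)]
        exact algebraMap_smul (A ⧸ J) (a (c l)) (bas l)
      have h2 := Submodule.smul_mem_smul (N := (⊤ : Submodule A M)) (hker _ hx) (Submodule.mem_top (x := m))
      convert h2 using 1
      simp only [Submodule.coe_sub, Finsupp.sum, Submodule.coe_sum, Submodule.coe_smul, sub_smul, Finset.sum_smul]
      congr 1
      refine Finset.sum_congr rfl fun l hl => ?_
      rw [if_neg (Finsupp.mem_support_iff.1 hl), if_neg (Finsupp.mem_support_iff.1 hl), smul_eq_mul, smul_smul,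
        mul_comm]
    · obtain ⟨d, hd⟩ := hx
      obtain ⟨d', hd'⟩ := hy
      refine ⟨d + d', ?_⟩
      rw [Finsupp.sum_add_index' (fun _ => smul_zero _) (fun _ _ _ => smul_add _ _ _)]
      convert Submodule.add_mem _ hd hd' using 1
      abel
  obtain ⟨d, hd⟩ := hgen b hb
  -- the coefficients vanish modulo `J`
  have hcoef : ∀ l, d l ∈ J • (⊤ : Submodule A M) := fun l => h0 _ fun i => by
    let χ : ↥(J ^ k) →ₗ[A] A ⧸ J := ((bas.coord l).restrictScalars A) ∘ₗ mk
    let μ : C i ⊗[A] ↥(J ^ k) →ₗ[A] C i :=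
      (TensorProduct.rid A (C i)).toLinearMap ∘ₗ (Submodule.subtype (J ^ k)).lTensor (C i)
    have hμ : Function.Injective μ := (TensorProduct.rid A (C i)).injective.comp
      (Module.Flat.lTensor_preserves_injective_linearMap _ Subtype.val_injective)
    have hμe : ∀ (c : C i) (x : ↥(J ^ k)), μ (c ⊗ₜ x) = (x : A) • c := fun c x => by simp [μ]
    have hdeep : ∀ x ∈ J ^ (k + 1) • (⊤ : Submodule A (C i)), ∃ w, μ w = x ∧ χ.lTensor (C i) w = 0 := by
      intro x hx
      refine Submodule.smul_induction_on hx (fun r hr c _ => ?_) (fun x y hx hy => ?_)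
      · obtain ⟨hr', h0'⟩ : ∃ hr' : r ∈ J ^ k, χ ⟨r, hr'⟩ = 0 := by
          rw [pow_succ'] at hr
          refine Submodule.mul_induction_on hr (fun a ha y hy => ?_) fun x y hx hy => ?_
          · refine ⟨Ideal.mul_mem_left _ a hy, ?_⟩
            rw [show (⟨a * y, Ideal.mul_mem_left _ a hy⟩ : ↥(J ^ k)) = a • ⟨y, hy⟩ from rfl, map_smul, Algebra.smul_def,
              show algebraMap A (A ⧸ J) a = 0 from Ideal.Quotient.eq_zero_iff_mem.2 ha, zero_mul]
          · obtain ⟨h₁, e₁⟩ := hx
            obtain ⟨h₂, e₂⟩ := hy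
            exact ⟨add_mem h₁ h₂, (map_add χ ⟨x, h₁⟩ ⟨y, h₂⟩).trans (by rw [e₁, e₂, add_zero])⟩
        exact ⟨c ⊗ₜ ⟨r, hr'⟩, hμe _ _, by simp [h0']⟩
      · obtain ⟨w, hw, hw'⟩ := hx
        obtain ⟨w', hw₂, hw₂'⟩ := hy
        exact ⟨w + w', by rw [map_add, hw, hw₂], by rw [map_add, hw', hw₂', add_zero]⟩
    have h1 : μ (d.sum fun l' m => φ i m ⊗ₜ[A] e l') ∈ J ^ (k + 1) • (⊤ : Submodule A (C i)) := by
      have h2 : φ i (b - d.sum fun l' m => (e l' : A) • m) ∈ J ^ (k + 1) • (⊤ : Submodule A (C i)) := by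
        have := Submodule.mem_map_of_mem (f := φ i) hd
        rw [Submodule.map_smul''] at this
        exact Submodule.smul_mono le_rfl le_top this
      rw [map_sub, hφ, zero_sub, Submodule.neg_mem_iff] at h2
      simpa [Finsupp.sum, map_sum, hμe] using h2
    obtain ⟨w, hw, hw'⟩ := hdeep _ h1
    rw [hμ hw] at hw'
    have h3 : (φ i (d l)) ⊗ₜ[A] (1 : A ⧸ J) = 0 := by
      rw [← hw', map_finsuppSum]
      symm
      rw [Finsupp.sum, Finset.sum_eq_single l]
      · simp [χ, he, Module.Basis.coord_apply]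
      · intro l' _ hl'
        simp [χ, he, Module.Basis.coord_apply, Finsupp.single_eq_of_ne' hl']
      · intro hl
        rw [Finsupp.notMem_support_iff.1 hl]
        simp
    have h4 := congrArg (TensorProduct.tensorQuotEquivQuotSMul (C i) J) h3
    rw [map_zero, ← map_one (Ideal.Quotient.mk J), TensorProduct.tensorQuotEquivQuotSMul_tmul_mk, one_smul] at h4
    exact (Submodule.Quotient.mk_eq_zero _).1 h4
  have hsum : d.sum (fun l m => (e l : A) • m) ∈ J ^ (k + 1) • (⊤ : Submodule A M) := by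
    refine Submodule.sum_mem _ fun l _ => ?_
    show (e l : A) • d l ∈ _
    have := Submodule.smul_mem_smul (e l).2 (hcoef l)
    rwa [← Submodule.mul_smul, ← pow_succ] at this
  have := Submodule.add_mem _ hd hsum
  rwa [sub_add_cancel] at this

/-- Joint injectivity lifts from the reduction modulo a nilpotent ideal. -/
theorem eq_zero_of_forall (hJ : IsNilpotent J)
    (hfree : ∀ k, Module.Free (A ⧸ J) ((A ⧸ J) ⊗[A] ↥(J ^ k))) {σ : Type u} {C : σ → Type u}
    [∀ i, AddCommGroup (C i)] [∀ i, Module A (C i)] [∀ i, Module.Flat A (C i)] (φ : ∀ i, M →ₗ[A] C i)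
    (h0 : ∀ b : M, (∀ i, φ i b ∈ J • (⊤ : Submodule A (C i))) → b ∈ J • (⊤ : Submodule A M))
    (b : M) (hφ : ∀ i, φ i b = 0) : b = 0 := by
  obtain ⟨n, hn⟩ := hJ
  have h : ∀ k, b ∈ J ^ k • (⊤ : Submodule A M) := by
    intro k
    induction k with
    | zero => rw [pow_zero, Ideal.one_eq_top, Submodule.top_smul]; exact Submodule.mem_top
    | succ k ih =>
      have := hfree k
      exact mem_smul_step J k φ h0 b ih hφ
  simpa [hn] using h n

end Groth.Agent.SchD38
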