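import Groth.Agent.SchD38.FibreHyp
import Groth.Agent.SGA3a.WeilRes

/-!
The locus over which a closed subscheme contains the whole scheme, from a fibrewise dense family of
essentially free subschemes.
-/

set_option autoImplicit false
set_option backward.isDefEq.respectTransparency.types false
universe u

open CategoryTheory AlgebraicGeometry
open CategoryTheory.Limits
open scoped TensorProduct

noncomputable section

namespace Groth.Agent.SchD38

variable {S H Y : Scheme.{u}} (f : H ⟶ S) {σ₀ : Type u} {Z : σ₀ → Scheme.{u}} (ι : ∀ n, Z n ⟶ H)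
  (y : Y ⟶ H) [IsClosedImmersion y]

/-- A morphism factors through a closed subscheme iff its kernel contains the ideal. -/
theorem factors_subschemeι_iff {X T : Scheme.{u}} (I : X.IdealSheafData) (g : T ⟶ X) :
    (∃ g', g' ≫ I.subschemeι = g) ↔ I ≤ g.ker := by
  constructor
  · rintro ⟨g', rfl⟩
    exact I.ker_subschemeι.ge.trans (g'.le_ker_comp I.subschemeι)
  · intro h
    exact ⟨IsClosedImmersion.lift I.subschemeι g (I.ker_subschemeι.le.trans h), IsClosedImmersion.lift_fac _ _ _⟩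

/-- For each member the locus is a closed subscheme. -/
theorem exists_member_ideal {X : Scheme.{u}} (i : X ⟶ H) (hfree : SGA3x.IsEssentiallyFree (i ≫ f)) :
    ∃ I : S.IdealSheafData, ∀ (S' : Scheme.{u}) (g : S' ⟶ S), I ≤ g.ker ↔
      ∃ l : pullback (i ≫ f) g ⟶ Y, l ≫ y = pullback.fst (i ≫ f) g ≫ i := by
  obtain ⟨T, t, ht, hT, -⟩ := SGA3a.exists_closed_weilRestriction (j := pullback.fst i y) hfree
  refine ⟨t.ker, fun S' g => ?_⟩
  have h1 : (∃ g', g' ≫ t = g) ↔ t.ker ≤ g.ker :=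
    ⟨fun ⟨g', hg'⟩ => hg' ▸ g'.le_ker_comp t, fun h => ⟨IsClosedImmersion.lift t g h, IsClosedImmersion.lift_fac _ _ _⟩⟩
  rw [← h1, hT]
  constructor
  · intro h
    obtain ⟨l, hl⟩ := h _ (pullback.fst (i ≫ f) g) (pullback.snd (i ≫ f) g) pullback.condition
    exact ⟨l ≫ pullback.snd i y, by rw [Category.assoc, ← pullback.condition, ← Category.assoc, hl]⟩
  · rintro ⟨l, hl⟩ W a b hab
    refine ⟨pullback.lift a (pullback.lift a b hab ≫ l) ?_, pullback.lift_fst _ _ _⟩
    rw [Category.assoc, hl, pullback.lift_fst_assoc]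

variable [IsLocallyNoetherian S] [IsLocallyNoetherian H] [∀ n, Flat (ι n ≫ f)]

/-- The kernel of the members controls the kernel of the whole base change. -/
theorem ker_le_ker_fst
    (hd : ∀ (s : S) (V' : (f.fiber s).Opens) (t : Γ(f.fiber s, V')),
      (∀ n, (MoreMor.fiberMap (ι n) f s).app V' t = 0) → t = 0)
    (I : σ₀ → S.IdealSheafData)
    (hI : ∀ n (S' : Scheme.{u}) (g : S' ⟶ S), I n ≤ g.ker →
      ∃ l : pullback (ι n ≫ f) g ⟶ Y, l ≫ y = pullback.fst (ι n ≫ f) g ≫ ι n) :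
    y.ker ≤ (pullback.fst f (⨆ n, I n).subschemeι).ker := by
  let J := ⨆ n, I n
  let σV := {V : H.affineOpens // ∃ U : S.affineOpens, V.1 ≤ f ⁻¹ᵁ U.1}
  refine Scheme.IdealSheafData.le_of_iSup_eq_top (fun o : σV => o.1) (top_le_iff.1 fun x _ => ?_) ?_
  · obtain ⟨U, hU, hxU, -⟩ := exists_isAffineOpen_mem_and_subset (U := (⊤ : S.Opens)) (x := f x) trivial
    obtain ⟨V, hV, hxV, hVU⟩ := exists_isAffineOpen_mem_and_subset (U := f ⁻¹ᵁ U) (x := x) hxU
    exact TopologicalSpace.Opens.mem_iSup.2 ⟨⟨⟨V, hV⟩, ⟨U, hU⟩, hVU⟩, hxV⟩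
  rintro ⟨V, U, hVU⟩ b hb
  rw [Scheme.Hom.ker_apply] at hb
  rw [Scheme.Hom.ker_apply]
  let _ : Algebra Γ(S, U) Γ(H, V) := (f.appLE U V hVU).hom.toAlgebra
  let _ : ∀ o : Piece ι V.1, Algebra Γ(S, U) Γ(Z o.1, o.2.1) := fun o =>
    ((ι o.1 ≫ f).appLE U o.2.1 (o.2.2.2.trans ((ι o.1).preimage_mono hVU))).hom.toAlgebra
  have hflat : ∀ o : Piece ι V.1, Module.Flat Γ(S, U) Γ(Z o.1, o.2.1) := fun o =>
    HasRingHomProperty.appLE @Flat (ι o.1 ≫ f) inferInstance U ⟨o.2.1, o.2.2.1⟩ _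
  let φ : ∀ o : Piece ι V.1, Γ(H, V) →ₐ[Γ(S, U)] Γ(Z o.1, o.2.1) := fun o =>
    { ((ι o.1).appLE V o.2.1 o.2.2.2).hom with
      commutes' := fun r => by
        show (ι o.1).appLE V o.2.1 o.2.2.2 (f.appLE U V hVU r) = (ι o.1 ≫ f).appLE U o.2.1 _ r
        have h := Scheme.Hom.appLE_comp_appLE (ι o.1) f U.1 V.1 o.2.1 hVU o.2.2.2
        exact congrArg (fun k : Γ(S, U) ⟶ Γ(Z o.1, o.2.1) => k r) h }
  have : IsNoetherianRing Γ(S, U) := IsLocallyNoetherian.component_noetherian U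
  have : IsNoetherianRing Γ(H, V) := IsLocallyNoetherian.component_noetherian V
  have : IsNoetherianRing (Γ(S, U) ⊗[Γ(S, U)] Γ(H, V)) :=
    isNoetherianRing_of_ringEquiv _ (Algebra.TensorProduct.lid Γ(S, U) Γ(H, V)).toRingEquiv.symm
  have hφJ : ∀ o, φ o b ∈ (J.ideal U).map (algebraMap Γ(S, U) Γ(Z o.1, o.2.1)) := fun o => by
    obtain ⟨n, W, hW, hWV⟩ := o
    let i : Γ(S, U) ⟶ Γ(Z n, W) := (ι n ≫ f).appLE U W (hWV.trans ((ι n).preimage_mono hVU))
    let K : Ideal Γ(Z n, W) := (J.ideal U).map i.hom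
    let q : Γ(Z n, W) ⟶ CommRingCat.of (Γ(Z n, W) ⧸ K) := CommRingCat.ofHom (Ideal.Quotient.mk K)
    let g : CommRingCat.of (Γ(S, U) ⧸ J.ideal U) ⟶ CommRingCat.of (Γ(Z n, W) ⧸ K) :=
      CommRingCat.ofHom (Ideal.quotientMap K i.hom Ideal.le_comap_map)
    let uT : Spec (CommRingCat.of (Γ(Z n, W) ⧸ K)) ⟶ J.subscheme := Spec.map g ≫ J.subschemeCover.f U
    let uZ := Spec.map q ≫ hW.fromSpec
    have huT : uT ≫ J.subschemeι = uZ ≫ ι n ≫ f := by
      refine (Category.assoc _ _ _).trans ((congrArg (Spec.map g ≫ ·) (J.subschemeCover_map_subschemeι U)).trans ?_)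
      refine (congrArg (Spec.map g ≫ ·) (J.glueDataObjι_ι U)).trans ?_
      show Spec.map g ≫ Spec.map (CommRingCat.ofHom (Ideal.Quotient.mk (J.ideal U))) ≫ U.2.fromSpec =
        (Spec.map q ≫ hW.fromSpec) ≫ ι n ≫ f
      rw [Category.assoc, ← IsAffineOpen.SpecMap_appLE_fromSpec (ι n ≫ f) U.2 hW (hWV.trans ((ι n).preimage_mono hVU)),
        ← Spec.map_comp_assoc, ← Spec.map_comp_assoc]
      rfl
    obtain ⟨l, hl⟩ := hI n _ J.subschemeι ((le_iSup I n).trans J.ker_subschemeι.ge)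
    let w := pullback.lift (f := ι n ≫ f) (g := J.subschemeι) uZ uT huT.symm ≫ l
    have hw : w ≫ y = (Spec.map q ≫ hW.fromSpec) ≫ ι n := by
      rw [Category.assoc, hl, pullback.lift_fst_assoc]
    refine Ideal.Quotient.eq_zero_iff_mem.1 (show q ((ι n).appLE V W hWV b) = 0 from ?_)
    have htop := top_le_preimage_fromSpec hW q
    have h' : (⊤ : (Spec (CommRingCat.of (Γ(Z n, W) ⧸ K))).Opens) ≤ w ⁻¹ᵁ (y ⁻¹ᵁ V) := by
      rw [← Scheme.Hom.comp_preimage, hw]
      exact htop.trans (Scheme.Hom.preimage_mono _ hWV)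
    have e : y.app V ≫ w.appLE (y ⁻¹ᵁ V) ⊤ h' =
        (ι n).appLE V W hWV ≫ (Spec.map q ≫ hW.fromSpec).appLE W ⊤ htop := by
      simp only [← Scheme.Hom.appLE_eq_app, Scheme.Hom.appLE_comp_appLE, hw]
    rw [appLE_specMap_fromSpec hW q htop] at e
    have h1 : (Scheme.ΓSpecIso _).inv (q ((ι n).appLE V W hWV b)) = 0 := by
      refine (congrArg (fun k => k b) e).symm.trans ?_
      show w.appLE _ _ h' (y.app V b) = 0
      rw [RingHom.mem_ker.1 hb]
      exact map_zero _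
    exact (ConcreteCategory.bijective_of_isIso (Scheme.ΓSpecIso _).inv).injective (h1.trans (map_zero _).symm)
  have hmem : b ∈ (J.ideal U).map (algebraMap Γ(S, U) Γ(H, V)) := by
    have h := mem_map_of_forall (R := Γ(S, U)) (R' := Γ(S, U)) φ
      (fun L _ _ β hβ => injective_of_fibre_dense f ι U.2 V.2 hVU hd rfl (fun _ => rfl) φ (fun _ _ => rfl) L β hβ)
      (J.ideal U) (1 ⊗ₜ b) fun o => by
        rw [Algebra.TensorProduct.map_tmul, map_one]
        have := Ideal.mem_map_of_mem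
          (Algebra.TensorProduct.includeRight (R := Γ(S, U)) (A := Γ(S, U)) (B := Γ(Z o.1, o.2.1))).toRingHom (hφJ o)
        rw [Ideal.map_map] at this
        convert this using 2
        swap; rfl
        exact RingHom.ext fun r => ((Algebra.TensorProduct.includeRight (R := Γ(S, U)) (A := Γ(S, U)) (B := Γ(Z o.1, o.2.1))).commutes r).symm
    have := Ideal.mem_map_of_mem (Algebra.TensorProduct.lid Γ(S, U) Γ(H, V)).toRingEquiv.toRingHom h
    rw [Ideal.map_map] at this
    convert this using 2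
    · exact RingHom.ext fun r => (Algebra.algebraMap_eq_smul_one r).trans (by simp [Algebra.smul_def])
    · simp
  refine (Ideal.map_le_iff_le_comap (K := RingHom.ker ((pullback.fst f J.subschemeι).app V).hom)).2 (fun r hr => ?_) hmem
  show (pullback.fst f J.subschemeι).app V (f.appLE U V hVU r) = 0
  have hs : pullback.fst f J.subschemeι ⁻¹ᵁ V ≤ pullback.snd f J.subschemeι ⁻¹ᵁ (J.subschemeι ⁻¹ᵁ U) := by
    rw [← Scheme.Hom.comp_preimage, ← pullback.condition]
    exact (pullback.fst f J.subschemeι).preimage_mono hVU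
  have e : f.appLE U V hVU ≫ (pullback.fst f J.subschemeι).app V =
      J.subschemeι.app U ≫ (pullback.snd f J.subschemeι).appLE _ _ hs := by
    simp only [← Scheme.Hom.appLE_eq_app, Scheme.Hom.appLE_comp_appLE, pullback.condition]
  refine (congrArg (fun k => k r) e).trans ?_
  show (pullback.snd f J.subschemeι).appLE _ _ hs (J.subschemeι.app U r) = 0
  rw [show J.subschemeι.app U r = 0 from RingHom.mem_ker.1 ((J.ker_subschemeι_app U).ge hr), map_zero]

/-- The locus is cut out by the sum of the ideals of the members. -/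
theorem exists_ideal
    (hfree : ∀ n, SGA3x.IsEssentiallyFree (ι n ≫ f))
    (hd : ∀ (s : S) (V' : (f.fiber s).Opens) (t : Γ(f.fiber s, V')),
      (∀ n, (MoreMor.fiberMap (ι n) f s).app V' t = 0) → t = 0) :
    ∃ I : σ₀ → S.IdealSheafData,
      (∀ n (S' : Scheme.{u}) (g : S' ⟶ S), I n ≤ g.ker ↔
        ∃ l : pullback (ι n ≫ f) g ⟶ Y, l ≫ y = pullback.fst (ι n ≫ f) g ≫ ι n) ∧
      ∀ (S' : Scheme.{u}) (g : S' ⟶ S), (⨆ n, I n) ≤ g.ker ↔
        ∃ l : pullback f g ⟶ Y, l ≫ y = pullback.fst f g := by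
  choose I hI using fun n => exists_member_ideal f y (ι n) (hfree n)
  refine ⟨I, hI, fun S' g => ⟨fun h => ?_, ?_⟩⟩
  · obtain ⟨g', hg'⟩ := (factors_subschemeι_iff (⨆ n, I n) g).2 h
    let p := IsClosedImmersion.lift y (pullback.fst f (⨆ n, I n).subschemeι)
      (ker_le_ker_fst f ι y hd I fun n S' g h => (hI n S' g).1 h)
    refine ⟨pullback.lift (pullback.fst f g) (pullback.snd f g ≫ g') (by
      rw [Category.assoc, hg']; exact pullback.condition) ≫ p, ?_⟩
    rw [Category.assoc, IsClosedImmersion.lift_fac, pullback.lift_fst]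
  · rintro ⟨l, hl⟩
    refine iSup_le fun n => (hI n S' g).2 ⟨pullback.lift (pullback.fst (ι n ≫ f) g ≫ ι n)
      (pullback.snd (ι n ≫ f) g) (by rw [Category.assoc]; exact pullback.condition) ≫ l, ?_⟩
    rw [Category.assoc, hl, pullback.lift_fst]

end Groth.Agent.SchD38
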